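import Cfsg.Agent.Lib.Helper5.SuzMult.D
import Cfsg.Agent.Lib.Helper5.SuzCov.Cov
import Cfsg.Agent.Lib.Helper5.J3MultE

/-!
# The Schur multiplier of the Suzuki group is cyclic of order six

The cover `D → Suz` of `SuzCov` is a stem extension with cyclic kernel of order `6`, and every finite stem extension of
the group `PS` of permutations of 1782 points has at most `6 |PS| = |D|` elements (`card_stem_le`); hence the kernel of
every finite stem extension is a quotient of the kernel of `D → Suz`.  The bound is transported to the presented group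
along lead's isomorphism.
-/

set_option autoImplicit false

namespace Cfsg.Agent.Lib.Helper5.SuzMult

open Cfsg Cfsg.Spor
open Cfsg.Agent.Lib.Helper5.J3Mult (exists_ker_surjective)
open Cfsg.Agent.Lib.Helper5.SuzCov (D πD stem_πD card_D card_ker_πD isCyclic_ker_πD)

theorem perfect_of_surj {A B : Type*} [Group A] [Group B] (f : A →* B)
    (hf : Function.Surjective f) (hA : commutator A = ⊤) : commutator B = ⊤ := by
  have h1 : Subgroup.map f (commutator A) = commutator B := by
    rw [commutator_def, commutator_def, Subgroup.map_commutator, ← MonoidHom.range_eq_map,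
      MonoidHom.range_eq_top.2 hf]
  rw [← h1, hA, ← MonoidHom.range_eq_map, MonoidHom.range_eq_top.2 hf]

/-- **the presented group `Suz` is perfect** -/
theorem perfect_Suz : commutator Suz = ⊤ :=
  perfect_of_surj isoPS.symm.toMonoidHom isoPS.symm.surjective perfect_PS

theorem stem_comp_equiv {Γ G H : Type*} [Group Γ] [Group G] [Group H] (e : G ≃* H) {σ : Γ →* G}
    (hσ : IsStemExtension σ) : IsStemExtension (e.toMonoidHom.comp σ) ∧ (e.toMonoidHom.comp σ).ker = σ.ker := by
  have hk : (e.toMonoidHom.comp σ).ker = σ.ker := by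
    ext x
    rw [MonoidHom.mem_ker, MonoidHom.mem_ker, MonoidHom.comp_apply]
    exact e.map_eq_one_iff
  refine ⟨⟨e.surjective.comp hσ.1, ?_, ?_⟩, hk⟩
  · rw [hk]; exact hσ.2.1
  · rw [hk]; exact hσ.2.2

/-- **the Schur multiplier of `Suz` is cyclic of order six** -/
theorem multiplier_Suz : HasCyclicSchurMultiplier Suz 6 := by
  have hfinD : Finite ↥D := inferInstance
  have hk6 : Nat.card ↥πD.ker = 6 := card_ker_πD
  have hcyc : IsCyclic ↥πD.ker := isCyclic_ker_πD
  have hz6 : Nat.card (Multiplicative (ZMod 6)) = 6 := by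
    rw [Nat.card_eq_fintype_card, Fintype.card_multiplicative, ZMod.card]
  have e : Multiplicative (ZMod 6) ≃* ↥πD.ker := mulEquivOfCyclicCardEq (hz6.trans hk6.symm)
  refine ⟨⟨↥D, inferInstance, hfinD, πD, stem_πD, ⟨e.symm⟩⟩, ?_⟩
  intro E _ _ σ hσ
  obtain ⟨f, hf⟩ := exists_ker_surjective πD stem_πD σ hσ perfect_Suz (fun D' _ _ ρ hρ => by
    rw [card_D]
    obtain ⟨hρ', -⟩ := stem_comp_equiv isoPS hρ
    exact card_stem_le _ hρ'.1 hρ'.2.1 hρ'.2.2)
  exact ⟨f.comp e.toMonoidHom, hf.comp e.surjective⟩

end Cfsg.Agent.Lib.Helper5.SuzMult
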