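import Mathlib
import Cfsg.Agent.Lib.Helper5.J3MultB

/-!
# Lifts of a class of involutions, indexed by the cosets of a perfect subgroup of the centraliser

For an involution `t0` of `G` and a perfect subgroup `C0` of its centraliser, helper8's `CanonLift.exists_lifts` is
applied to the action of `G` on the cosets of `C0`, with `Tq0 (g C0) = g t0 g⁻¹`.  Words that are palindromes in lifted
generators are lifts of conjugates; a product of two such palindromes whose points in `G ⧸ C0` coincide is trivial.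
Unlike in `J3MultB` the subgroup `C0` need not be the whole centraliser: the price is that the coincidence of two
points has to be shown in `G ⧸ C0`, by an element of `C0`.
-/

set_option autoImplicit false

namespace Cfsg.Agent.Lib.Helper5.SuzMult

open Cfsg.Agent.Lib.Helper8.CanonLift
open Cfsg.Agent.Lib.Helper5.J3Mult (Cz conj_eq_of_rel palW conjV conjV_eq perfect_congr)

section quot

variable {G : Type*} [Group G] (t0 : G) (C0 : Subgroup G) (hC0 : C0 ≤ Cz t0)

/-- the conjugate of `t0` that belongs to a coset of `C0` -/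
def Tq0 : G ⧸ C0 → G :=
  fun q => Quotient.liftOn' q (fun g => g * t0 * g⁻¹) (fun x y h => by
    rw [QuotientGroup.leftRel_apply] at h
    exact conj_eq_of_rel t0 (hC0 h))

theorem Tq0_mk (g : G) : Tq0 t0 C0 hC0 (g : G ⧸ C0) = g * t0 * g⁻¹ := rfl

theorem Tq0_conj (g : G) (x : G ⧸ C0) : g * Tq0 t0 C0 hC0 x * g⁻¹ = Tq0 t0 C0 hC0 (g • x) := by
  induction x using QuotientGroup.induction_on with
  | H y =>
    rw [MulAction.Quotient.smul_mk, Tq0_mk, Tq0_mk, smul_eq_mul]
    group

theorem Tq0_sq (h0 : t0 * t0 = 1) (x : G ⧸ C0) : Tq0 t0 C0 hC0 x * Tq0 t0 C0 hC0 x = 1 := by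
  induction x using QuotientGroup.induction_on with
  | H y =>
    rw [Tq0_mk]
    calc y * t0 * y⁻¹ * (y * t0 * y⁻¹) = y * (t0 * t0) * y⁻¹ := by group
      _ = 1 := by rw [h0]; group

/-- **the lifts of the conjugates of `t0`**, indexed by the cosets of a perfect subgroup of the centraliser -/
theorem exists_lifts_sub {E : Type*} [Group E] {σ : E →* G} (hsurj : Function.Surjective σ)
    (hcen : σ.ker ≤ Subgroup.center E) (h0 : t0 * t0 = 1) (hperf : commutator ↥C0 = ⊤)
    (a c u : G ⧸ C0) (hac : Tq0 t0 C0 hC0 a * Tq0 t0 C0 hC0 c = Tq0 t0 C0 hC0 u)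
    (hca : Tq0 t0 C0 hC0 c • a = a) :
    ∃ Λ : Lifts σ (Tq0 t0 C0 hC0), Λ.L a * Λ.L c = Λ.L u :=
  exists_lifts hsurj hcen (Tq0_conj t0 C0 hC0) (Tq0_sq t0 C0 hC0 h0) ((1 : G) : G ⧸ C0)
    (perfect_congr (MulAction.stabilizer_quotient C0) hperf) a c u hac hca

end quot

/-! ### palindromes -/

section pal

variable {G : Type*} [Group G] {E : Type*} [Group E] {t0 : G} {C0 : Subgroup G} {hC0 : C0 ≤ Cz t0}
  {σ : E →* G} (Λ : Lifts σ (Tq0 t0 C0 hC0)) (x : ℕ → G ⧸ C0)

/-- the point of a palindrome -/
def palP0 (t0 : G) (C0 : Subgroup G) (hC0 : C0 ≤ Cz t0) (x : ℕ → G ⧸ C0) (h : List ℕ) (c : ℕ) : G ⧸ C0 :=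
  ((h.reverse.map fun i => Tq0 t0 C0 hC0 (x i)).prod) • x c

/-- the product of the lifts along a palindrome -/
theorem prod_palW0 (h : List ℕ) (c : ℕ) :
    ((palW h c).map fun i => Λ.L (x i)).prod = Λ.L (palP0 t0 C0 hC0 x h c) := by
  have e : ((palW h c).map fun i => Λ.L (x i)).prod =
      Λ.ev ((h.reverse.map x) ++ x c :: (h.reverse.map x).reverse) := by
    unfold Lifts.ev palW
    rw [List.map_reverse, List.reverse_reverse, ← List.map_reverse]
    simp only [List.map_append, List.map_cons, List.map_map]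
    rfl
  rw [e, Λ.ev_conj, List.map_map]
  rfl

/-- two palindromes with the same point: the product of the lifts is trivial -/
theorem prod_coincide0 {h1 h2 : List ℕ} {c1 c2 : ℕ}
    (hp : palP0 t0 C0 hC0 x h1 c1 = palP0 t0 C0 hC0 x h2 c2) :
    ((palW h1 c1 ++ palW h2 c2).map fun i => Λ.L (x i)).prod = 1 := by
  rw [List.map_append, List.prod_append, prod_palW0, prod_palW0, hp, Λ.sq]

/-- three palindromes whose points are the normalising triple: the product of the lifts is trivial -/
theorem prod_triple0 {ha hc hu : List ℕ} {ca cc cu : ℕ}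
    (hacu : Λ.L (palP0 t0 C0 hC0 x ha ca) * Λ.L (palP0 t0 C0 hC0 x hc cc) = Λ.L (palP0 t0 C0 hC0 x hu cu)) :
    ((palW ha ca ++ (palW hc cc ++ palW hu cu)).map fun i => Λ.L (x i)).prod = 1 := by
  rw [List.map_append, List.prod_append, List.map_append, List.prod_append, prod_palW0, prod_palW0,
    prod_palW0, ← mul_assoc, hacu, Λ.sq]

/-- the point of a palindrome, by an element of the group: if `x i` is the coset of `g i` and `T i` the conjugate of
`t0` that belongs to it, the point of a palindrome is the coset of the product of the `T i` and of `g c` -/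
theorem palP0_eq_mk (g : ℕ → G) (hx : ∀ i, x i = ((g i : G) : G ⧸ C0)) (h : List ℕ) (c : ℕ) :
    palP0 t0 C0 hC0 x h c =
      (((h.reverse.map fun i => g i * t0 * (g i)⁻¹).prod * g c : G) : G ⧸ C0) := by
  unfold palP0
  rw [hx c, MulAction.Quotient.smul_mk, smul_eq_mul]
  congr 2
  apply congrArg
  apply List.map_congr_left
  intro i _
  rw [hx i, Tq0_mk]

/-- two cosets coincide when the representatives differ by an element of the subgroup -/
theorem mk_eq_of_mul {a b r : G} (hr : r ∈ C0) (h : a = b * r) : ((a : G) : G ⧸ C0) = ((b : G) : G ⧸ C0) := by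
  rw [h]
  symm
  rw [QuotientGroup.eq]
  rw [← mul_assoc, inv_mul_cancel, one_mul]
  exact hr

end pal

end Cfsg.Agent.Lib.Helper5.SuzMult
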