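import Cfsg.Agent.Lib.Helper5.SuzMult.Fam

/-!
# Generic lemmas: straight line programs inside a subgroup, and a subgroup generated by involutions that is perfect

* `mem_of_run`: the selected outputs of a straight line program whose inputs lie in a subgroup `K` of `H` are codes of
  elements of `K`.
* `perfect_closure_invol`: a group generated by involutions `k 0, …, k (m - 1)`, each joined to `k 0` by a chain of
  pairs with a product of order three, is perfect as soon as some word of odd length in the `k i` is trivial.
-/

set_option autoImplicit false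

namespace Cfsg.Agent.Lib.Helper5.SuzMult

open Cfsg.Agent.PL
open Cfsg.Agent.PG (runM runM_mem)

section run

variable {n : ℕ} (hn : n ≤ 4096) {H : Subgroup (Equiv.Perm (Fin n))}

theorem good_of_regs {gs : List ↥H} {cs : List ℕ} (h : RegsOK H gs cs) : ∀ c ∈ cs, Good H c := by
  induction h with
  | nil => intro c hc; exact absurd hc List.not_mem_nil
  | cons hd _ ih =>
    intro c hc
    rcases List.mem_cons.1 hc with rfl | hc
    · exact ⟨_, hd⟩
    · exact ih c hc

/-- the registers of elements with given codes -/
theorem regs_el : ∀ cs : List ℕ, (∀ c ∈ cs, Good H c) → RegsOK H (cs.map (el H)) cs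
  | [], _ => List.Forall₂.nil
  | c :: cs, h => List.Forall₂.cons (enc_el (h c List.mem_cons_self))
      (regs_el cs fun c' hc' => h c' (List.mem_cons_of_mem _ hc'))

include hn in
/-- the selected outputs of a program whose inputs lie in the subgroup `K` are codes of elements of `K` -/
theorem mem_of_run {gs : List ↥H} {cs : List ℕ} (h : RegsOK H gs cs) (K : Subgroup ↥H) (hK : ∀ g ∈ gs, g ∈ K)
    (prog : List (ℕ × ℕ)) (idx out : List ℕ)
    (hout : runK n prog cs (fun r => idx.map fun i => r.getD i (pone n)) = out) :
    ∀ c ∈ out, Good H c ∧ el H c ∈ K := by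
  intro c hc
  rw [runK_eq] at hout
  rw [← hout, List.mem_map] at hc
  obtain ⟨i, -, rfl⟩ := hc
  have hmem : ∀ g ∈ runM prog gs, g ∈ K.toSubmonoid := runM_mem K.toSubmonoid prog gs hK
  have hget : (runM prog gs).getD i 1 ∈ K := by
    by_cases hi : i < (runM prog gs).length
    · rw [List.getD_eq_getElem _ _ hi]
      exact hmem _ (List.getElem_mem hi)
    · rw [List.getD_eq_default _ _ (not_lt.1 hi)]
      exact K.one_mem
  have he : enc n ((runM prog gs).getD i 1).1 = (run n prog cs).getD i (pone n) := (h.run hn).getD i
  refine ⟨⟨_, he⟩, ?_⟩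
  rw [el_eq hn he]
  exact hget

theorem exists_code_of_regs {gs : List ↥H} {cs : List ℕ} (h : RegsOK H gs cs) :
    ∀ g ∈ gs, ∃ c ∈ cs, enc n g.1 = c := by
  induction h with
  | nil => intro g hg; exact absurd hg List.not_mem_nil
  | cons hd _ ih =>
    intro g hg
    rcases List.mem_cons.1 hg with rfl | hg
    · exact ⟨_, List.mem_cons_self, hd⟩
    · obtain ⟨c, hc, he⟩ := ih g hg
      exact ⟨c, List.mem_cons_of_mem _ hc, he⟩

section family

variable (cz : ℕ) {codes gcodes : List ℕ}
variable (hcz : Good H cz) (hg : ∀ c ∈ gcodes, Good H c) (hconj : codes = gcodes.map fun g => conjC n g cz)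

include hn hcz hg hconj in
/-- the registers of the members of a family -/
theorem regs_family : ∀ l : List ℕ, RegsOK H (l.map (tG H cz gcodes)) (l.map fun i => codes.getD i cz)
  | [] => List.Forall₂.nil
  | i :: l => by
    obtain ⟨h1, h2⟩ := code_tG hn hcz hg hconj i
    refine List.Forall₂.cons ?_ (regs_family l)
    rw [← h2]
    exact enc_el h1

include hn hcz hg hconj in
/-- **the first `k` members of a family generate `H`**, when a straight line program computes from them the codes of
elements that generate `H` -/
theorem closure_tG_top (k : ℕ) {gens : List ↥H} {cs : List ℕ} (hregs : RegsOK H gens cs)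
    (hgen : ∀ K : Subgroup ↥H, (∀ g ∈ gens, g ∈ K) → K = ⊤) (slp : List (ℕ × ℕ)) (idx : List ℕ)
    (hrun : runK n slp ((List.range k).reverse.map fun i => codes.getD i cz)
      (fun r => idx.map fun i => r.getD i (pone n)) = cs) :
    Subgroup.closure (tG H cz gcodes '' Set.Iio k) = ⊤ := by
  apply hgen
  set K := Subgroup.closure (tG H cz gcodes '' Set.Iio k) with hK
  have hfam := regs_family hn cz hcz hg hconj (List.range k).reverse
  have hmem := mem_of_run hn hfam K (by
    intro g hg'
    rw [List.mem_map] at hg'
    obtain ⟨i, hi, rfl⟩ := hg'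
    rw [List.mem_reverse, List.mem_range] at hi
    exact Subgroup.subset_closure ⟨i, hi, rfl⟩) slp idx cs hrun
  intro g hg'
  obtain ⟨c, hc, he⟩ := exists_code_of_regs hregs g hg'
  rw [← el_eq hn he]
  exact (hmem c hc).2

end family

end run

/-! ### perfect groups generated by involutions -/

section perfect

variable {G : Type*} [Group G]

theorem abel_eq_of_order_three {A : Type*} [CommGroup A] {x y : A} (hx : x * x = 1) (hy : y * y = 1)
    (h3 : (x * y) ^ 3 = 1) : x = y := by
  have h2 : (x * y) ^ 2 = 1 := by
    rw [pow_two, mul_mul_mul_comm, hx, hy, one_mul]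
  have h1 : x * y = 1 := by
    have : (x * y) ^ 3 = (x * y) ^ 2 * (x * y) := pow_succ _ _
    rw [h3, h2, one_mul] at this
    exact this.symm
  calc x = x * (y * y) := by rw [hy, mul_one]
    _ = (x * y) * y := by rw [mul_assoc]
    _ = y := by rw [h1, one_mul]

theorem pow_of_sq_eq_one {A : Type*} [Monoid A] {x : A} (hx : x * x = 1) :
    ∀ l : ℕ, x ^ l = if l % 2 = 1 then x else 1
  | 0 => by simp
  | 1 => by simp
  | (l + 2) => by
    rw [pow_add, pow_two, hx, mul_one, pow_of_sq_eq_one hx l]
    have : (l + 2) % 2 = l % 2 := by omega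
    rw [this]

/-- **a group generated by involutions is perfect**, when each of them is joined to the first by a chain of pairs with
a product of order three and some word of odd length in them is trivial -/
theorem perfect_closure_invol (k : ℕ → G) (m : ℕ) (par : ℕ → ℕ)
    (hsq : ∀ i, i < m → k i * k i = 1)
    (hparlt : ∀ i, i < m → par i < m)
    (hlink : ∀ i, i < m → (k i * k (par i)) ^ 3 = 1)
    (hroot : ∀ i, i < m → par^[m] i = 0)
    (w : List ℕ) (hw : ∀ x ∈ w, x < m) (hodd : w.length % 2 = 1) (hprod : (w.map k).prod = 1) :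
    commutator ↥(Subgroup.closure (k '' Set.Iio m)) = ⊤ := by
  set C := Subgroup.closure (k '' Set.Iio m) with hC
  have hmem : ∀ i, i < m → k i ∈ C := fun i hi => Subgroup.subset_closure ⟨i, hi, rfl⟩
  -- the generators inside `C`
  let kc : ℕ → ↥C := fun i => if h : i < m then ⟨k i, hmem i h⟩ else 1
  have hkc : ∀ i, i < m → ((kc i : ↥C) : G) = k i := fun i hi => by simp [kc, hi]
  let φ : ↥C →* Abelianization ↥C := Abelianization.of
  have hφsq : ∀ i, i < m → φ (kc i) * φ (kc i) = 1 := by
    intro i hi
    rw [← map_mul]
    have : kc i * kc i = 1 := Subtype.ext (by rw [Subgroup.coe_mul, hkc i hi, hsq i hi]; rfl)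
    rw [this, map_one]
  have hstep : ∀ i, i < m → φ (kc i) = φ (kc (par i)) := by
    intro i hi
    apply abel_eq_of_order_three (hφsq i hi) (hφsq _ (hparlt i hi))
    rw [← map_mul, ← map_pow]
    have : (kc i * kc (par i)) ^ 3 = 1 :=
      Subtype.ext (by rw [Subgroup.coe_pow, Subgroup.coe_mul, hkc i hi, hkc _ (hparlt i hi), hlink i hi]; rfl)
    rw [this, map_one]
  have hiter : ∀ j : ℕ, ∀ i, i < m → par^[j] i < m ∧ φ (kc i) = φ (kc (par^[j] i)) := by
    intro j
    induction j with
    | zero => intro i hi; exact ⟨hi, rfl⟩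
    | succ j ih =>
      intro i hi
      rw [Function.iterate_succ_apply']
      obtain ⟨h1, h2⟩ := ih i hi
      exact ⟨hparlt _ h1, h2.trans (hstep _ h1)⟩
  have hall : ∀ i, i < m → φ (kc i) = φ (kc 0) := by
    intro i hi
    have := (hiter m i hi).2
    rwa [hroot i hi] at this
  -- the word
  have hm0 : 0 < m := by
    rcases w with _ | ⟨x, w⟩
    · simp at hodd
    · exact lt_of_le_of_lt (Nat.zero_le _) (hw x List.mem_cons_self)
  have hword : ∀ v : List ℕ, (∀ x ∈ v, x < m) → φ ((v.map kc).prod) = φ (kc 0) ^ v.length := by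
    intro v
    induction v with
    | nil => intro _; simp
    | cons x v ih =>
      intro hv
      rw [List.map_cons, List.prod_cons, map_mul, ih (fun y hy => hv y (List.mem_cons_of_mem _ hy)),
        hall x (hv x List.mem_cons_self), List.length_cons, pow_succ']
  have hprodC : (w.map kc).prod = 1 := by
    apply Subtype.ext
    rw [Subgroup.coe_one, ← hprod]
    clear hprod hodd
    induction w with
    | nil => rfl
    | cons x v ih =>
      rw [List.map_cons, List.prod_cons, Subgroup.coe_mul, hkc x (hw x List.mem_cons_self), List.map_cons,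
        List.prod_cons, ih (fun y hy => hw y (List.mem_cons_of_mem _ hy))]
  have h0 : φ (kc 0) = 1 := by
    have h1 := hword w hw
    rw [hprodC, map_one, pow_of_sq_eq_one (hφsq 0 hm0), if_pos hodd] at h1
    exact h1.symm
  -- every generator lies in the commutator subgroup
  have hker : ∀ i, i < m → kc i ∈ commutator ↥C := by
    intro i hi
    rw [← Abelianization.ker_of, MonoidHom.mem_ker]
    exact (hall i hi).trans h0
  rw [eq_top_iff]
  rintro ⟨x, hx⟩ -
  have key : ∀ y (hy : y ∈ C), (⟨y, hy⟩ : ↥C) ∈ commutator ↥C := by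
    intro y hy
    induction hy using Subgroup.closure_induction with
    | mem y hy' =>
      obtain ⟨i, hi, rfl⟩ := hy'
      have : (⟨k i, Subgroup.subset_closure ⟨i, hi, rfl⟩⟩ : ↥C) = kc i := Subtype.ext (hkc i hi).symm
      rw [this]
      exact hker i hi
    | one => exact Subgroup.one_mem _
    | mul a b ha hb iha ihb => exact Subgroup.mul_mem _ iha ihb
    | inv a ha iha => exact Subgroup.inv_mem _ iha
  exact key x hx

end perfect

end Cfsg.Agent.Lib.Helper5.SuzMult
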