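import Cfsg.Agent.Lib.Helper5.SuzMult.A
import Cfsg.Agent.Lib.Helper5.J3MultA
import Cfsg.Agent.Lib.Lead.PL.Regs

/-!
# Codes of elements of a group of permutations (twelve bits per point): a family of conjugates of an involution

`H` is a group of permutations of `n ≤ 4096` points.  A family of conjugates `g i * tz * (g i)⁻¹` of an involution `tz`
is given by the codes of `tz` and of the `g i`; the points of palindromes in the cosets of a subgroup `C0` are computed
on the codes, and two of them coincide as soon as the codes differ by a product of elements of `C0`.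
-/

set_option autoImplicit false
set_option maxRecDepth 100000

namespace Cfsg.Agent.Lib.Helper5.SuzMult

open Cfsg.Agent.PL
open Cfsg.Agent.PG (runM runM_mem)
open Cfsg.Agent.Lib.Helper5.J3Fus (strictN strictN_eq)
open Cfsg.Agent.Lib.Helper5.J3Mult (Cz palW)

/-! ### computations on codes -/

/-- the code of the product of the elements with the indices in `w` in the list `cs` -/
noncomputable def wordG (n : ℕ) (cs : List ℕ) (w : List ℕ) : ℕ :=
  List.rec (motive := fun _ => ℕ) (pone n)
    (fun x _ ih => strictN ih fun v => pmul n (cs.getD x (pone n)) v) w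

theorem wordG_nil (n : ℕ) (cs : List ℕ) : wordG n cs [] = pone n := rfl

theorem wordG_cons (n : ℕ) (cs : List ℕ) (x : ℕ) (w : List ℕ) :
    wordG n cs (x :: w) = pmul n (cs.getD x (pone n)) (wordG n cs w) := by
  show strictN (wordG n cs w) (fun v => pmul n (cs.getD x (pone n)) v) = _
  rw [strictN_eq]

/-- the code of the conjugate of `t` by `g` -/
def conjC (n g t : ℕ) : ℕ := pmul n (pmul n g t) (pinv n g)

/-- multiply the code `v` successively on the left by the members of the family with the indices in `h` -/
noncomputable def palGa (n cz : ℕ) (codes : List ℕ) (h : List ℕ) : ℕ → ℕ :=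
  List.rec (motive := fun _ => ℕ → ℕ) (fun v => v)
    (fun s _ ih v => strictN (pmul n (codes.getD s cz) v) ih) h

theorem palGa_nil (n cz : ℕ) (codes : List ℕ) (v : ℕ) : palGa n cz codes [] v = v := rfl

theorem palGa_cons (n cz : ℕ) (codes : List ℕ) (s : ℕ) (h : List ℕ) (v : ℕ) :
    palGa n cz codes (s :: h) v = palGa n cz codes h (pmul n (codes.getD s cz) v) := by
  show strictN (pmul n (codes.getD s cz) v) (palGa n cz codes h) = _
  rw [strictN_eq]

/-- the code of the element whose coset is the point of a palindrome -/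
noncomputable def palG (n cz : ℕ) (codes gcodes : List ℕ) (p : List ℕ × ℕ) : ℕ :=
  palGa n cz codes p.1 (gcodes.getD p.2 (pone n))

/-- the two palindromes of a coincidence have the same point: the codes differ by a product of elements of the list
`trv` -/
noncomputable def relOKw (n cz : ℕ) (codes gcodes trv : List ℕ) (c : (List ℕ × ℕ × List ℕ × ℕ) × List ℕ) : Bool :=
  Nat.beq (palG n cz codes gcodes (c.1.1, c.1.2.1))
    (pmul n (palG n cz codes gcodes (c.1.2.2.1, c.1.2.2.2)) (wordG n trv c.2))

/-- the letters of a coincidence are below `g` -/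
def letOK (g : ℕ) (c : List ℕ × ℕ × List ℕ × ℕ) : Bool :=
  c.1.all (fun x => Nat.blt x g) && (Nat.blt c.2.1 g && (c.2.2.1.all (fun x => Nat.blt x g) && Nat.blt c.2.2.2 g))

/-- the product of two palindromes -/
def longW (c : List ℕ × ℕ × List ℕ × ℕ) : List ℕ := palW c.1 c.2.1 ++ palW c.2.2.1 c.2.2.2

/-- the trivial coincidence -/
def c0 : List ℕ × ℕ × List ℕ × ℕ := ([], 0, [], 0)

/-- the trivial coincidence with its witness -/
def c0w : (List ℕ × ℕ × List ℕ × ℕ) × List ℕ := (c0, [])

theorem mem_palW {h : List ℕ} {c x : ℕ} (hx : x ∈ palW h c) : x ∈ h ∨ x = c := by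
  unfold palW at hx
  rw [List.mem_append, List.mem_reverse, List.mem_cons] at hx
  tauto

theorem lt_of_letOK {g : ℕ} {c : List ℕ × ℕ × List ℕ × ℕ} (h : letOK g c = true) :
    ∀ x ∈ longW c, x < g := by
  unfold letOK at h
  simp only [Bool.and_eq_true, List.all_eq_true, Nat.blt_eq] at h
  obtain ⟨h1, h2', h3, h4⟩ := h
  intro x hx
  unfold longW at hx
  rcases List.mem_append.1 hx with hx | hx
  · rcases mem_palW hx with hx | rfl
    · exact h1 x hx
    · exact h2'
  · rcases mem_palW hx with hx | rfl
    · exact h3 x hx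
    · exact h4

theorem lt_getD {g : ℕ} (hg : 0 < g) {l : List ((List ℕ × ℕ × List ℕ × ℕ) × List ℕ)}
    (hl : l.all (fun c => letOK g c.1) = true) (k : ℕ) : ∀ x ∈ longW (l.getD k c0w).1, x < g := by
  by_cases hk : k < l.length
  · rw [List.getD_eq_getElem _ _ hk]
    exact lt_of_letOK (List.all_eq_true.1 hl _ (List.getElem_mem hk))
  · rw [List.getD_eq_default _ _ (by omega)]
    intro x hx
    have : x = 0 := by
      unfold c0w longW c0 palW at hx
      simpa using hx
    omega

/-- a certificate read from packed entries: table (17 bits), time (20), kind (2), row (17), word (12), place (6) -/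
def mkCert (n g nsub : ℕ) (ent par : ℕ → ℕ) (W : ℕ → List ℕ) : Cfsg.Agent.Lib.Helper5.J3Mult.FCert where
  n := n
  g := g
  nsub := nsub
  Tg a x := ent (a * g + x) % 131072
  tg a x := (ent (a * g + x) >>> 17) % 1048576
  kd a x := (ent (a * g + x) >>> 37) % 4
  rs a x := (ent (a * g + x) >>> 39) % 131072
  rw a x := (ent (a * g + x) >>> 56) % 4096
  rp a x := (ent (a * g + x) >>> 68) % 64
  pa b := par b / g
  px b := par b % g
  W := W

/-! ### codes of elements of `H` -/

section codes

variable {n : ℕ} (hn : n ≤ 4096) (H : Subgroup (Equiv.Perm (Fin n)))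

/-- `c` is the code of an element of `H` -/
def Good (c : ℕ) : Prop := ∃ g : ↥H, enc n g.1 = c

open Classical in
/-- the element with the code `c` -/
noncomputable def el (c : ℕ) : ↥H := if h : Good H c then h.choose else 1

variable {H}

open Classical in
theorem enc_el {c : ℕ} (h : Good H c) : enc n (el H c).1 = c := by
  rw [el, dif_pos h]
  exact h.choose_spec

include hn in
theorem el_eq {c : ℕ} {g : ↥H} (h : enc n g.1 = c) : el H c = g := by
  have hg : Good H c := ⟨g, h⟩
  apply Subtype.ext
  apply enc_injective hn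
  rw [enc_el hg, h]

include hn in
theorem Good.mul {a b : ℕ} (ha : Good H a) (hb : Good H b) : Good H (pmul n a b) := by
  obtain ⟨g, rfl⟩ := ha
  obtain ⟨h, rfl⟩ := hb
  exact ⟨g * h, by rw [Subgroup.coe_mul, pmul_enc hn]⟩

include hn in
theorem el_pmul {a b : ℕ} (ha : Good H a) (hb : Good H b) : el H (pmul n a b) = el H a * el H b := by
  apply el_eq hn
  rw [Subgroup.coe_mul, ← pmul_enc hn, enc_el ha, enc_el hb]

include hn in
theorem Good.inv {a : ℕ} (ha : Good H a) : Good H (pinv n a) := by
  obtain ⟨g, rfl⟩ := ha
  exact ⟨g⁻¹, by rw [Subgroup.coe_inv, pinv_enc hn]⟩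

include hn in
theorem el_pinv {a : ℕ} (ha : Good H a) : el H (pinv n a) = (el H a)⁻¹ := by
  apply el_eq hn
  rw [Subgroup.coe_inv, ← pinv_enc hn, enc_el ha]

theorem good_pone : Good H (pone n) := ⟨1, by rw [pone_eq]; rfl⟩

include hn in
theorem el_pone : el H (pone n) = 1 := el_eq hn (by rw [pone_eq]; rfl)

theorem good_getD {cs : List ℕ} (hcs : ∀ c ∈ cs, Good H c) (i : ℕ) : Good H (cs.getD i (pone n)) := by
  by_cases hi : i < cs.length
  · rw [List.getD_eq_getElem _ _ hi]
    exact hcs _ (List.getElem_mem hi)
  · rw [List.getD_eq_default _ _ (by omega)]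
    exact good_pone

include hn in
/-- the product of elements of a list, on the codes -/
theorem wordG_spec {cs : List ℕ} (hcs : ∀ c ∈ cs, Good H c) : ∀ w : List ℕ,
    Good H (wordG n cs w) ∧ el H (wordG n cs w) = (w.map fun x => el H (cs.getD x (pone n))).prod
  | [] => ⟨good_pone, by rw [wordG_nil, el_pone hn, List.map_nil, List.prod_nil]⟩
  | x :: w => by
    obtain ⟨h1, h2⟩ := wordG_spec hcs w
    rw [wordG_cons, List.map_cons, List.prod_cons, ← h2]
    exact ⟨(good_getD hcs x).mul hn h1, el_pmul hn (good_getD hcs x) h1⟩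

include hn in
/-- the outputs of a straight line program from codes of elements are codes of elements -/
theorem good_of_run {gs : List ↥H} {cs : List ℕ} (h : RegsOK H gs cs) (prog : List (ℕ × ℕ)) (idx out : List ℕ)
    (hout : runK n prog cs (fun r => idx.map fun i => r.getD i (pone n)) = out) :
    ∀ c ∈ out, Good H c := by
  intro c hc
  obtain ⟨g, hg, he⟩ := exists_of_run hn h prog idx out hout c hc
  exact ⟨⟨g, hg⟩, he⟩

end codes

end Cfsg.Agent.Lib.Helper5.SuzMult
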