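import Mathlib

/-! Data for the bound on the stem extensions of `Suz` (generated by a script): coincidences of the large certificate,
part 0. -/

set_option autoImplicit false

namespace Cfsg.Agent.Lib.Helper5.SuzMult

def rel5_0 : List ((List ℕ × ℕ × List ℕ × ℕ) × List ℕ) := [
  (([1], 0, [], 0), [66, 73, 90, 99]), (([2], 1, [], 1), [66, 77, 94, 100]),
  (([3], 2, [], 2), [66, 93, 96, 99]), (([4], 0, [], 0), [66, 86, 92, 98]),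
  (([7], 0, [], 0), [74]), (([7], 1, [], 1), [89]),
  (([7], 4, [], 4), [89]), (([8], 0, [], 0), [9, 86, 91, 100]),
  (([8], 1, [], 1), [50, 64, 82, 91, 97, 99, 100]), (([8], 4, [], 4), [50, 64, 82, 91, 97, 99, 100]),
  (([0], 2, [3], 1), [59, 85, 92, 97]), (([0], 3, [3], 0), [55, 85, 91, 96, 99, 100]),
  (([0], 5, [5], 0), [70, 74, 89, 96, 99, 100]), (([0], 6, [6], 0), [64, 80, 95, 100]),
  (([1], 5, [5], 1), [55, 80, 88, 98, 100]), (([2], 4, [4], 2), [62, 72, 89, 94, 99]),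
  (([2], 5, [5], 2), [59, 79, 96]), (([2], 6, [6], 2), [60, 75, 87, 95, 99, 100]),
  (([3], 4, [4], 3), [66, 82, 90, 99]), (([3], 5, [5], 3), [62, 78, 87, 97]),
  (([3], 6, [6], 3), [66, 73, 90, 97, 99]), (([4], 1, [2], 0), [64, 79, 93, 98, 100]),
  (([4], 6, [6], 4), [70, 81, 93, 97, 100]), (([5], 6, [6], 5), [69, 86]),
  (([1, 0], 4, [1], 4), [100]), (([7, 0], 8, [7], 8), [9]),
  (([2, 1], 7, [2], 7), [53, 80, 89, 99]), (([2, 1], 8, [2], 8), [0, 86, 91, 100]),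
  (([3, 1], 1, [3], 1), [66, 82, 90, 94]), (([6, 1], 1, [6], 1), [66, 72, 97, 99, 100]),
  (([7, 1], 2, [7], 2), [66, 78, 90, 97, 99]), (([7, 1], 8, [7], 8), [0, 86, 91, 100]),
  (([8, 1], 2, [8], 2), [66, 78, 90, 97, 99]), (([8, 1], 7, [8], 7), [53, 80, 89, 99]),
  (([4, 2], 3, [5], 4), [60, 73, 92, 96]), (([5, 2], 3, [4], 5), [59, 84, 90, 95, 99]),
  (([7, 2], 2, [7], 2), [53, 86, 91, 100]), (([8, 2], 2, [8], 2), [2, 86, 91, 100]),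
  (([4, 3], 2, [5], 4), [86, 91, 100]), (([5, 3], 2, [4], 5), [62, 72, 89, 96, 99, 100]),
  (([5, 4], 4, [5], 4), [66, 93, 96, 99]), (([6, 4], 2, [6], 3), [70, 85, 88, 99]),
  (([7, 4], 8, [7], 8), [19, 66, 88, 95, 99]), (([8, 4], 7, [8], 7), [53, 76, 87, 98, 99]),
  (([6, 5], 2, [6], 3), [62, 81, 89, 96, 99]), (([4, 6], 2, [4], 3), [70, 85, 88, 99]),
  (([5, 6], 2, [5], 3), [62, 81, 89, 96, 99]), (([1, 7], 4, [1], 4), [89]),
  (([2, 7], 0, [2], 0), [53, 75, 88, 99]), (([1, 8], 4, [1], 4), [50, 64, 82, 91, 97, 99, 100]),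
  (([2, 8], 0, [2], 0), [0]), (([1, 0], 3, [2, 3], 0), [69, 90, 96, 99]),
  (([1, 0], 6, [2, 6], 0), [64, 86, 87, 100]), (([4, 0], 2, [3, 4], 1), [59, 85, 92, 97]),
  (([4, 0], 3, [3, 4], 0), [55, 85, 91, 96, 99, 100]), (([4, 0], 5, [5, 4], 0), [70, 74, 89, 96, 99, 100]),
  (([5, 0], 1, [5, 1], 0), [59, 85, 92, 97, 99, 100]), (([5, 0], 4, [1, 6], 3), [56, 86, 90, 96, 99]),
  (([6, 0], 4, [6, 4], 0), [69, 82, 91, 94, 99, 100]), (([7, 0], 2, [3, 7], 1), [59, 85, 92, 97]),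
  (([7, 0], 3, [3, 7], 0), [55, 85, 91, 96, 99, 100]), (([7, 0], 5, [5, 7], 0), [70, 74, 89, 96, 99, 100]),
  (([7, 0], 6, [6, 7], 0), [64, 80, 95, 100]), (([8, 0], 2, [3, 8], 1), [59, 85, 92, 97]),
  (([8, 0], 3, [3, 8], 0), [55, 85, 91, 96, 99, 100]), (([8, 0], 5, [5, 8], 0), [70, 74, 89, 96, 99, 100]),
  (([8, 0], 6, [6, 8], 0), [64, 80, 95, 100]), (([3, 1], 0, [2, 3], 0), [66, 73, 90, 99]),
  (([3, 1], 7, [2, 3], 7), [53, 80, 89, 99]), (([3, 1], 8, [2, 3], 8), [0, 86, 91, 100]),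
  (([4, 1], 2, [3, 4], 1), [64, 80, 94]), (([4, 1], 5, [5, 3], 1), [60, 74, 89, 96, 99, 100]),
  (([5, 1], 2, [5, 2], 1), [78, 88, 96, 99, 100]), (([5, 1], 4, [1, 3], 4), [60, 77, 91, 98, 99]),
  (([6, 1], 0, [2, 6], 0), [62, 72, 89, 97]), (([6, 1], 2, [3, 6], 1), [69, 80, 92, 94, 99]),
  (([6, 1], 7, [2, 6], 7), [62, 81, 93, 94, 100]), (([6, 1], 8, [2, 6], 8), [12, 65, 80, 91, 95, 100]),
  (([7, 1], 3, [1, 7], 3), []), (([7, 1], 5, [5, 7], 1), [55, 80, 88, 98, 100]),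
  (([7, 1], 6, [1, 7], 6), []), (([8, 1], 3, [1, 8], 3), []),
  (([8, 1], 5, [5, 8], 1), [55, 80, 88, 98, 100]), (([8, 1], 6, [1, 8], 6), []),
  (([1, 2], 4, [3, 4], 1), [70, 81, 93, 94, 99, 100]), (([1, 2], 6, [3, 6], 1), [56, 81, 90, 96, 100]),
  (([3, 2], 7, [2, 3], 7), []), (([3, 2], 8, [2, 3], 8), []),
  (([6, 2], 1, [6, 0], 1), [70, 77, 91, 96, 100]), (([6, 2], 3, [6, 3], 2), [62, 81, 89, 98, 100]),
  (([6, 2], 4, [5, 6], 4), [59, 74, 93, 95, 99, 100]), (([6, 2], 5, [4, 6], 5), [60, 75, 87, 94]),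
  (([6, 3], 4, [5, 6], 4), [64, 91, 96, 100]), (([6, 3], 5, [4, 6], 5), [62, 82, 87, 97]),
  (([5, 4], 3, [4, 5], 2), [62, 81, 89, 98, 100]), (([7, 4], 2, [4, 7], 2), [])]

end Cfsg.Agent.Lib.Helper5.SuzMult
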