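import Mathlib

/-! Data for the bound on the stem extensions of `Suz` (generated by a script): coincidences of the large certificate,
part 1. -/

set_option autoImplicit false

namespace Cfsg.Agent.Lib.Helper5.SuzMult

def rel5_1 : List ((List ℕ × ℕ × List ℕ × ℕ) × List ℕ) := [
  (([7, 4], 3, [4, 7], 3), []), (([7, 4], 5, [4, 7], 5), []),
  (([7, 4], 6, [6, 7], 4), [70, 81, 93, 97, 100]), (([8, 4], 2, [4, 8], 2), []),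
  (([8, 4], 3, [4, 8], 3), []), (([8, 4], 5, [4, 8], 5), []),
  (([8, 4], 6, [6, 8], 4), [70, 81, 93, 97, 100]), (([1, 5], 3, [1, 4], 3), [86, 91, 98, 99]),
  (([1, 5], 4, [5, 4], 0), [55, 73, 93, 95, 99, 100]), (([4, 5], 3, [5, 4], 2), [62, 81, 89, 98, 100]),
  (([3, 7], 7, [7, 3], 3), [70, 75, 91, 98, 99, 100]), (([5, 7], 7, [7, 5], 5), [55, 84, 87, 98, 100]),
  (([6, 7], 7, [7, 6], 6), [65, 73, 89, 98, 99, 100]), (([3, 8], 8, [8, 3], 3), [16, 70, 76, 91, 96]),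
  (([5, 8], 8, [8, 5], 5), [12, 55, 80, 91, 99, 100]), (([6, 8], 8, [8, 6], 6), [39, 70, 76, 89, 98, 99, 100]),
  (([6, 1, 0], 4, [1, 4], 6), [70, 74, 89, 94, 100]), (([5, 2, 0], 0, [5, 2], 1), [60, 85, 88, 94, 100]),
  (([6, 2, 0], 0, [3, 6], 1), [64, 91, 99, 100]), (([7, 2, 0], 8, [7, 2], 8), [8, 86, 91, 100]),
  (([8, 2, 0], 7, [8, 2], 7), [53, 72, 88, 99]), (([5, 3, 0], 1, [5, 4], 1), [70, 82, 97]),
  (([1, 4, 0], 3, [4, 1], 3), []), (([2, 4, 0], 7, [2, 4], 7), [53, 72, 88, 99]),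
  (([2, 4, 0], 8, [2, 4], 8), [8, 86, 91, 100]), (([3, 5, 0], 0, [5, 3], 0), [83, 92, 99, 100]),
  (([3, 5, 0], 7, [5, 3], 7), [77, 90, 97, 99]), (([3, 5, 0], 8, [5, 3], 8), [13, 66, 86, 90, 96, 99]),
  (([3, 6, 0], 0, [6, 3], 0), [86, 91, 97]), (([3, 6, 0], 7, [6, 3], 7), [72, 92, 95, 100]),
  (([3, 6, 0], 8, [6, 3], 8), [16, 76, 89, 94, 99, 100]), (([2, 7, 0], 8, [2, 7], 8), [8, 86, 91, 100]),
  (([2, 8, 0], 7, [2, 8], 7), [53, 72, 88, 99]), (([7, 8, 0], 2, [8, 7], 2), []),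
  (([7, 8, 0], 3, [8, 7], 3), []), (([7, 8, 0], 5, [8, 7], 5), []),
  (([7, 8, 0], 6, [8, 7], 6), []), (([5, 2, 1], 0, [5, 0], 2), [70, 82, 97, 99]),
  (([6, 2, 1], 0, [6, 0], 2), [56, 75, 88, 97, 99, 100]), (([7, 2, 1], 8, [7, 2], 8), [0, 86, 91, 100]),
  (([8, 2, 1], 7, [8, 2], 7), [53, 80, 89, 99]), (([6, 3, 1], 2, [1, 3], 6), [62, 73, 87, 97]),
  (([2, 4, 1], 7, [2, 4], 7), [85, 91, 100]), (([3, 4, 1], 0, [1, 4], 3), [70, 77, 91, 95]),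
  (([5, 4, 1], 0, [5, 4], 1), [60, 85, 88, 94, 100]), (([6, 4, 1], 0, [1, 4], 6), [59, 80, 90, 95]),
  (([5, 6, 1], 1, [1, 5], 6), [60, 75, 87, 98]), (([3, 7, 1], 1, [3, 7], 1), [66, 82, 90, 94]),
  (([6, 7, 1], 1, [6, 7], 1), [66, 72, 97, 99, 100]), (([8, 7, 1], 2, [8, 7], 2), [66, 78, 90, 97, 99]),
  (([3, 8, 1], 1, [3, 8], 1), [66, 82, 90, 94]), (([6, 8, 1], 1, [6, 8], 1), [66, 72, 97, 99, 100]),
  (([3, 0, 2], 7, [3, 0], 7), [53, 80, 89, 99]), (([3, 0, 2], 8, [3, 0], 8), [0, 86, 91, 100]),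
  (([4, 1, 2], 3, [1, 3], 4), [66, 73, 90, 94]), (([5, 1, 2], 0, [5, 0], 2), [70, 82, 97, 99]),
  (([6, 1, 2], 3, [1, 3], 6), [66, 72, 99, 100]), (([5, 3, 2], 1, [5, 1], 3), [59, 83, 98, 99, 100]),
  (([6, 3, 2], 0, [1, 6], 4), [59, 84, 90, 97, 99, 100]), (([7, 3, 2], 2, [7, 3], 2), [53, 86, 91, 100]),
  (([8, 3, 2], 2, [8, 3], 2), [2, 86, 91, 100]), (([1, 4, 2], 3, [1, 6], 3), [66, 93, 96]),
  (([2, 4, 2], 7, [2, 4], 7), [53, 76, 87, 98, 99]), (([2, 4, 2], 8, [2, 4], 8), [19, 66, 88, 95, 99]),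
  (([5, 4, 2], 1, [5, 0], 3), [66, 72, 96]), (([4, 5, 2], 2, [5, 4], 2), [62, 78, 87, 94, 99, 100]),
  (([2, 6, 2], 0, [6, 0], 2), [66, 82, 90, 97, 99]), (([3, 7, 2], 1, [3, 7], 1), [67, 80, 91, 96, 100]),
  (([3, 8, 2], 1, [3, 8], 1), [45, 76, 90, 95, 100]), (([7, 8, 2], 2, [8, 7], 2), [2, 67, 90, 97]),
  (([3, 0, 3], 8, [3, 0], 8), [9]), (([5, 2, 3], 1, [5, 1], 3), [59, 83, 98, 99, 100]),
  (([6, 2, 3], 0, [1, 6], 4), [59, 84, 90, 97, 99, 100]), (([1, 4, 3], 3, [1, 6], 3), [66, 86, 92, 98, 99]),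
  (([3, 4, 3], 1, [4, 1], 3), [55, 74, 95, 99, 100]), (([3, 4, 3], 7, [3, 4], 7), [53, 76, 87, 98, 99]),
  (([3, 4, 3], 8, [3, 4], 8), [19, 66, 88, 95, 99]), (([6, 4, 3], 0, [6, 4], 1), [69, 82, 91, 95]),
  (([3, 5, 3], 0, [5, 0], 3), [70, 73, 92, 98, 99]), (([4, 5, 3], 2, [5, 4], 2), [60, 77, 91, 98, 99]),
  (([3, 6, 3], 0, [6, 0], 3), [70, 82, 99]), (([3, 6, 3], 1, [6, 1], 3), [60, 74, 89, 97, 99, 100]),
  (([6, 0, 4], 2, [6, 0], 3), [70, 85, 88, 99]), (([5, 1, 4], 0, [5, 3], 1), [69, 77, 87, 100]),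
  (([6, 2, 4], 0, [6, 1], 3), [59, 74, 93, 98]), (([2, 3, 4], 0, [4, 1], 3), [56, 79, 92, 96]),
  (([6, 3, 4], 0, [6, 3], 1), [69, 82, 91, 95]), (([6, 3, 4], 2, [5, 6], 4), [56, 81, 90, 97, 100]),
  (([3, 5, 4], 0, [3, 5], 1), [69, 82, 91, 95]), (([6, 5, 4], 4, [4, 6], 5), [62, 72, 89, 96, 99, 100]),
  (([1, 6, 4], 3, [1, 6], 3), [66, 78, 90, 97, 99]), (([2, 6, 4], 0, [6, 1], 4), [64, 84, 92, 94]),
  (([5, 7, 4], 4, [5, 7], 4), [66, 93, 96, 99]), (([6, 7, 4], 2, [6, 7], 3), [70, 85, 88, 99]),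
  (([5, 8, 4], 4, [5, 8], 4), [66, 93, 96, 99]), (([6, 8, 4], 2, [6, 8], 3), [70, 85, 88, 99])]

end Cfsg.Agent.Lib.Helper5.SuzMult
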