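import Mathlib

/-! Data for the bound on the stem extensions of `Suz` (generated by a script): coincidences of the large certificate,
part 10. -/

set_option autoImplicit false

namespace Cfsg.Agent.Lib.Helper5.SuzMult

def rel5_10 : List ((List ℕ × ℕ × List ℕ × ℕ) × List ℕ) := [
  (([8, 2, 6, 5], 3, [3, 8, 6, 0], 0), [3, 59, 74, 93, 94]), (([2, 4, 6, 5], 8, [6, 8, 3, 8], 3), [30, 71, 85, 90, 97, 99]),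
  (([8, 5, 6, 5], 7, [5, 0, 6, 7], 7), [9, 69, 78, 87, 100]), (([7, 2, 7, 5], 8, [5, 2, 8, 2], 0), [44, 58, 75, 90, 94, 100]),
  (([6, 3, 7, 5], 2, [5, 7, 3, 6], 2), [61, 88, 96]), (([7, 3, 7, 5], 6, [6, 5, 4, 3], 0), [61, 79, 90, 95, 100]),
  (([8, 3, 7, 5], 7, [6, 4, 2, 7], 0), [9, 58, 72, 88, 94, 99, 100]), (([2, 5, 7, 5], 8, [5, 2, 8, 2], 7), [45, 53, 75, 88, 95, 100]),
  (([8, 2, 8, 5], 7, [5, 2, 7, 2], 0), [1, 67, 72, 87, 96]), (([6, 3, 8, 5], 2, [5, 8, 3, 6], 2), [37, 79, 87, 97, 100]),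
  (([6, 3, 1, 6], 7, [2, 3, 4, 2], 7), [63, 83, 93, 94, 100]), (([7, 3, 1, 6], 5, [5, 7, 6, 5], 1), [55, 72, 87, 98, 100]),
  (([8, 3, 1, 6], 5, [5, 8, 6, 5], 1), [22, 62, 80, 88, 98, 99]), (([6, 0, 2, 6], 8, [3, 8, 3, 8], 1), [16, 58, 73, 89, 99]),
  (([5, 1, 2, 6], 7, [2, 6, 4, 5], 7), [85, 91, 94]), (([6, 5, 2, 6], 7, [3, 6, 5, 2], 7), []),
  (([5, 1, 3, 6], 0, [2, 6, 5, 4], 0), [86, 91, 94]), (([5, 1, 3, 6], 7, [6, 7, 3, 0], 5), [83, 91, 94]),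
  (([7, 2, 3, 6], 5, [6, 5, 0, 7], 1), [54, 73, 91, 96, 100]), (([8, 2, 3, 6], 5, [6, 5, 0, 8], 1), [18, 55, 77, 91, 96]),
  (([6, 5, 3, 6], 8, [2, 6, 5, 3], 8), []), (([5, 7, 3, 6], 3, [6, 3, 7, 5], 1), [86, 93, 97, 100]),
  (([4, 8, 3, 6], 5, [1, 8, 5, 3], 3), [3, 70, 85, 88, 100]), (([5, 2, 4, 6], 7, [6, 0, 1, 7], 5), [86, 99, 100]),
  (([8, 5, 4, 6], 5, [1, 8, 6, 3], 3), [3, 70, 85, 88, 100]), (([8, 2, 5, 6], 3, [3, 8, 5, 3], 0), [32, 69, 74, 96]),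
  (([8, 2, 5, 6], 7, [5, 6, 4, 7], 1), [9, 58, 82, 88, 94, 100]), (([2, 3, 5, 6], 7, [1, 3, 5, 7], 6), [53, 78, 87, 96]),
  (([6, 3, 5, 6], 7, [3, 5, 6, 2], 7), []), (([2, 7, 5, 6], 8, [8, 5, 4, 2], 3), [39, 55, 84, 96]),
  (([5, 1, 7, 6], 3, [5, 2, 3, 7], 0), [71, 84, 92, 96, 100]), (([7, 2, 7, 6], 5, [3, 6, 5, 7], 1), [64, 84, 88, 98, 99]),
  (([2, 4, 7, 6], 8, [8, 6, 0, 2], 2), [19, 67, 80, 89, 97]), (([6, 0, 8, 6], 3, [5, 8, 3, 1], 0), [36, 55, 75, 88, 95, 100]),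
  (([3, 6, 1, 7], 7, [1, 7, 3, 5], 3), [53, 78, 98, 100]), (([3, 4, 2, 7], 7, [1, 3, 7, 3], 4), [61, 81, 88]),
  (([2, 6, 2, 7], 7, [7, 2, 3, 4], 5), [59, 81, 93, 98, 100]), (([3, 7, 2, 7], 8, [7, 3, 8, 3], 2), [50, 69, 75, 89, 96]),
  (([2, 4, 3, 7], 7, [3, 7, 3, 0], 1), [61, 72, 88, 98, 100]), (([7, 5, 3, 7], 2, [5, 7, 5, 4], 1), [56, 86, 97, 100]),
  (([7, 5, 3, 7], 5, [5, 6, 1, 6], 0), [58, 83, 90]), (([1, 7, 3, 7], 6, [1, 7, 6, 1], 3), [57, 78, 92, 100]),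
  (([6, 0, 4, 7], 7, [7, 5, 6, 1], 2), [60, 72, 89, 98, 99, 100]), (([7, 2, 4, 7], 5, [4, 5, 7, 2], 2), [56, 79, 92, 96, 99]),
  (([5, 4, 5, 7], 8, [8, 3, 4, 2], 2), [40, 65, 75, 90, 94, 99]), (([7, 5, 6, 7], 6, [5, 7, 3, 1], 2), [53, 79, 88, 95]),
  (([4, 7, 6, 7], 3, [6, 7, 5, 2], 0), [67, 85, 90, 99]), (([5, 7, 6, 7], 4, [6, 7, 5, 0], 1), [77, 91, 95, 100]),
  (([6, 1, 8, 7], 5, [8, 5, 7, 3], 3), [17, 61, 79, 92, 97]), (([6, 3, 8, 7], 7, [3, 6, 7, 8], 7), [77, 95]),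
  (([8, 5, 8, 7], 3, [7, 3, 8, 3], 3), [2, 58, 72, 99, 100]), (([5, 2, 0, 8], 8, [5, 2, 8, 5], 0), [13, 56, 78, 93, 98, 100]),
  (([7, 2, 0, 8], 6, [7, 6, 8, 7], 2), [60, 76, 95, 99]), (([8, 3, 0, 8], 6, [2, 5, 2, 6], 0), [6, 69, 86, 94]),
  (([3, 6, 1, 8], 8, [1, 8, 3, 5], 3), [38, 62, 77, 93, 95, 99]), (([3, 8, 2, 8], 7, [8, 3, 7, 3], 2), [17, 59, 74, 87, 95]),
  (([4, 8, 2, 8], 3, [4, 8, 2, 4], 3), [66, 86, 92, 98]), (([5, 2, 3, 8], 8, [4, 8, 3, 5], 2), [55, 81, 92, 97, 99, 100]),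
  (([8, 5, 3, 8], 6, [1, 4, 8, 6], 3), [43, 58, 79, 92, 98, 99, 100]), (([6, 8, 3, 8], 7, [8, 6, 7, 6], 3), [1, 60, 73, 89, 98, 99, 100]),
  (([7, 8, 5, 8], 5, [5, 7, 5, 3], 0), [52, 63, 80, 87, 97, 99]), (([3, 4, 6, 8], 8, [3, 8, 5, 4], 0), [5, 55, 82, 89, 95, 100]),
  (([7, 8, 6, 8], 6, [6, 7, 3, 0], 0), [49, 58, 73, 88, 95, 100]), (([7, 2, 5, 1, 0], 5, [7, 2, 5, 7], 5), [53, 74]),
  (([5, 1, 6, 1, 0], 0, [6, 5, 0, 3], 1), [59, 80, 90, 94, 99, 100]), (([5, 4, 6, 1, 0], 8, [5, 4, 6, 5], 8), [36, 61, 73, 87, 94, 99]),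
  (([8, 3, 4, 2, 0], 3, [8, 5, 3, 6], 5), [16, 70, 76, 91, 94, 99]), (([2, 5, 6, 2, 0], 0, [6, 0, 3, 5], 1), [69, 82, 91, 100]),
  (([3, 5, 6, 2, 0], 7, [3, 6, 1, 5], 7), [62, 83, 92, 95]), (([2, 3, 8, 2, 0], 7, [3, 0, 8, 2], 7), [53, 80, 89, 99]),
  (([4, 7, 8, 2, 0], 2, [4, 7, 8, 2], 2), [66, 78, 90, 97, 99]), (([2, 3, 4, 3, 0], 7, [3, 0, 4, 6], 7), [62, 86, 92, 98, 99]),
  (([5, 7, 5, 3, 0], 1, [4, 7, 3, 5], 5), [56, 79, 92]), (([7, 8, 5, 3, 0], 3, [8, 6, 7, 5], 3), [4, 70, 78, 93, 96, 100]),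
  (([7, 8, 5, 3, 0], 5, [8, 7, 3, 5], 5), [79, 88, 96, 99, 100]), (([8, 3, 6, 3, 0], 6, [7, 6, 8, 3], 8), [0, 69, 73, 95]),
  (([7, 5, 6, 3, 0], 6, [2, 8, 6, 3], 7), [8, 69, 75, 93, 97, 99]), (([3, 7, 6, 3, 0], 1, [7, 3, 5, 6], 3), [60, 76, 93, 96, 100]),
  (([7, 8, 6, 3, 0], 3, [8, 6, 7, 6], 3), [4, 54, 89, 97]), (([6, 7, 8, 3, 0], 3, [8, 2, 7, 6], 5), [7, 66, 87, 96, 100]),
  (([5, 7, 6, 4, 0], 2, [7, 6, 3, 5], 6), [65, 75, 93, 96, 99, 100]), (([2, 6, 2, 5, 0], 7, [3, 6, 3, 5], 7), [65, 79, 92, 95, 99]),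
  (([4, 8, 6, 5, 0], 2, [8, 6, 0, 2], 6), [30, 85, 92, 96, 100]), (([6, 1, 7, 5, 0], 3, [6, 5, 1, 7], 7), [56, 80, 98, 99]),
  (([6, 3, 7, 5, 0], 1, [5, 7, 6, 1], 3), [54, 72, 89, 97, 100]), (([7, 3, 8, 5, 0], 5, [8, 3, 7, 5], 5), [23, 64, 76, 88, 95, 99]),
  (([2, 5, 8, 5, 0], 8, [7, 2, 5, 8], 8), [5, 70, 72, 87, 95, 99]), (([2, 5, 2, 6, 0], 7, [5, 6, 3, 4], 7), [64, 74, 88, 95]),
  (([5, 8, 2, 6, 0], 1, [2, 4, 7, 5], 8), [12, 66, 81, 92, 99]), (([5, 2, 3, 6, 0], 7, [6, 5, 0, 2], 7), [55, 75, 89, 98, 100]),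
  (([5, 4, 8, 6, 0], 0, [1, 8, 2, 5], 3), [45, 57, 81, 91, 96, 100]), (([1, 6, 8, 6, 0], 4, [6, 2, 3, 8], 8), [3, 69, 90, 97, 99, 100]),
  (([6, 7, 8, 6, 0], 3, [8, 2, 7, 3], 5), [7, 54, 83, 97]), (([7, 2, 3, 7, 0], 3, [5, 7, 3, 4], 4), [62, 83, 92, 97, 100]),
  (([3, 0, 5, 7, 0], 7, [3, 5, 3, 7], 7), [77, 90, 97, 99]), (([3, 6, 5, 7, 0], 1, [7, 2, 7, 3], 5), [71, 85, 90, 94, 99, 100])]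

end Cfsg.Agent.Lib.Helper5.SuzMult
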