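import Mathlib

/-! Data for the bound on the stem extensions of `Suz` (generated by a script): coincidences of the large certificate,
part 11. -/

set_option autoImplicit false

namespace Cfsg.Agent.Lib.Helper5.SuzMult

def rel5_11 : List ((List ℕ × ℕ × List ℕ × ℕ) × List ℕ) := [
  (([7, 3, 6, 7, 0], 2, [8, 6, 7, 2], 7), [9, 70, 76, 93, 95, 99]), (([3, 5, 1, 8, 0], 0, [5, 3, 1, 8], 0), [83, 92, 99, 100]),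
  (([5, 0, 2, 8, 0], 7, [5, 1, 2, 8], 7), []), (([7, 5, 3, 8, 0], 5, [8, 5, 3, 7], 5), [19, 67, 75, 90, 97]),
  (([3, 0, 5, 8, 0], 7, [3, 5, 3, 8], 7), [77, 90, 97, 99]), (([3, 4, 5, 8, 0], 7, [5, 4, 2, 8], 7), [53, 72, 88, 97]),
  (([4, 8, 5, 8, 0], 3, [7, 6, 5, 3], 8), [39, 68, 86, 93, 96, 99]), (([1, 5, 7, 8, 0], 6, [1, 5, 8, 7], 6), []),
  (([6, 5, 7, 8, 0], 7, [6, 5, 8, 7], 7), []), (([1, 7, 3, 0, 1], 6, [1, 7, 3, 5], 6), [54, 84, 97, 99, 100]),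
  (([6, 8, 3, 0, 1], 1, [8, 5, 0, 4], 6), [30, 58, 81, 89, 97, 99, 100]), (([6, 7, 6, 2, 1], 2, [7, 2, 6, 2], 6), [60, 80, 91, 95, 99, 100]),
  (([4, 7, 5, 3, 1], 2, [8, 3, 7, 6], 7), [9, 70, 83, 90, 96, 99]), (([4, 8, 6, 3, 1], 2, [1, 6, 8, 6], 4), [3, 55, 75, 90, 95, 99, 100]),
  (([1, 6, 7, 3, 1], 3, [1, 3, 7, 6], 6), [62, 83, 87, 94]), (([2, 6, 7, 3, 1], 0, [6, 7, 2, 3], 0), [60, 80, 91, 98]),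
  (([3, 0, 5, 4, 1], 7, [5, 2, 4, 2], 7), [57, 79, 93, 98, 100]), (([5, 2, 6, 4, 1], 0, [5, 1, 6, 5], 3), [64, 84, 92, 96, 99]),
  (([2, 3, 6, 4, 1], 7, [3, 4, 6, 0], 7), [62, 84, 98]), (([4, 7, 6, 4, 1], 2, [1, 6, 7, 6], 3), [68, 79, 89, 96]),
  (([4, 7, 2, 5, 1], 3, [7, 3, 7, 6], 5), [63, 77, 88, 97, 100]), (([4, 7, 3, 5, 1], 5, [7, 6, 5, 0], 5), [81, 93, 98, 99, 100]),
  (([4, 7, 6, 5, 1], 5, [8, 6, 4, 7], 7), [9, 67, 74, 99]), (([5, 4, 7, 5, 1], 0, [6, 2, 7, 3], 0), [64, 76, 92, 95, 99, 100]),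
  (([7, 5, 0, 6, 1], 2, [7, 5, 4, 7], 2), [53, 78, 87, 94, 99]), (([6, 7, 3, 6, 1], 1, [7, 2, 7, 6], 3), [59, 86, 89, 94, 99]),
  (([5, 2, 7, 6, 1], 0, [7, 3, 6, 2], 5), [57, 74, 89]), (([1, 4, 7, 6, 1], 3, [7, 3, 5, 6], 5), [58, 80, 87, 96, 99, 100]),
  (([6, 7, 3, 7, 1], 0, [5, 7, 3, 4], 3), [56, 83, 89]), (([3, 5, 6, 7, 1], 0, [4, 7, 5, 2], 3), [62, 72, 93, 94, 99, 100]),
  (([5, 7, 2, 8, 1], 2, [8, 2, 7, 2], 5), [64, 79, 93, 94, 99]), (([8, 3, 6, 8, 1], 5, [8, 6, 5, 2], 6), [0, 66, 82, 90, 99]),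
  (([4, 7, 6, 0, 2], 2, [7, 5, 4, 6], 6), [63, 72, 91, 94, 99, 100]), (([8, 3, 5, 3, 2], 7, [8, 5, 4, 1], 7), [57, 73, 93, 96]),
  (([2, 5, 6, 3, 2], 7, [5, 4, 1, 6], 7), [57, 73, 93, 96]), (([2, 5, 7, 3, 2], 7, [3, 8, 6, 8], 7), [6, 58, 83, 87, 100]),
  (([6, 5, 7, 3, 2], 0, [1, 7, 6, 0], 6), [53, 86, 92, 98, 99]), (([6, 4, 8, 3, 2], 1, [6, 8, 5, 4], 4), [36, 63, 82, 93, 99]),
  (([5, 6, 0, 4, 2], 7, [5, 6, 1, 6], 7), [65, 80, 89, 96, 99]), (([7, 5, 1, 4, 2], 5, [7, 6, 4, 3], 5), [82, 98, 99, 100]),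
  (([6, 7, 6, 4, 2], 2, [7, 2, 4, 6], 5), [59, 86, 87, 95]), (([2, 6, 3, 5, 2], 7, [3, 5, 1, 6], 7), [57, 85, 93, 97, 100]),
  (([2, 6, 3, 5, 2], 8, [3, 5, 1, 6], 8), [37, 69, 80, 98]), (([5, 6, 4, 5, 2], 7, [6, 2, 5, 4], 7), [53, 76, 87, 98, 99]),
  (([5, 1, 7, 5, 2], 3, [7, 2, 0, 6], 6), [61, 73, 87, 94, 100]), (([6, 3, 7, 5, 2], 0, [4, 5, 0, 7], 2), [67, 75, 92, 97, 100]),
  (([5, 1, 8, 5, 2], 3, [8, 2, 0, 6], 6), [34, 53, 77, 91, 96, 99, 100]), (([6, 7, 2, 6, 2], 3, [7, 5, 1, 6], 5), [56, 74, 87, 96]),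
  (([3, 7, 3, 6, 2], 1, [2, 8, 6, 0], 7), [8, 53, 75, 93, 95, 100]), (([5, 3, 4, 7, 2], 0, [7, 2, 4, 6], 6), [57, 74, 89, 97, 99, 100]),
  (([5, 3, 4, 8, 2], 0, [8, 2, 4, 6], 6), [12, 53, 83, 89, 95, 100]), (([8, 5, 4, 8, 2], 2, [3, 6, 8, 5], 8), [14, 71, 81, 93, 98, 99, 100]),
  (([1, 7, 5, 0, 3], 6, [7, 3, 1, 4], 6), [56, 77, 92, 99]), (([4, 8, 6, 0, 3], 5, [4, 8, 6, 5], 5), [40, 71, 72, 89]),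
  (([5, 6, 5, 1, 3], 0, [5, 2, 4, 6], 1), [84, 89, 96, 99]), (([4, 7, 6, 1, 3], 2, [7, 6, 0, 5], 6), [63, 82, 92, 98, 99, 100]),
  (([4, 8, 6, 1, 3], 2, [8, 6, 0, 5], 6), [50, 67, 75, 92, 98, 99]), (([4, 7, 6, 4, 3], 2, [4, 7, 6, 4], 2), [53, 86, 91, 100]),
  (([5, 6, 8, 5, 3], 4, [8, 2, 5, 8], 5), [18, 58, 79, 87, 94]), (([3, 5, 1, 6, 3], 7, [3, 6, 3, 5], 7), [56, 73, 93, 96]),
  (([3, 8, 2, 6, 3], 0, [8, 5, 0, 6], 2), [0, 60, 75, 87, 98, 99]), (([5, 1, 4, 6, 3], 7, [6, 2, 5, 4], 7), [53, 81, 89, 96, 99, 100]),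
  (([5, 2, 7, 6, 3], 1, [4, 7, 5, 6], 3), [71, 82, 91, 99, 100]), (([5, 6, 7, 6, 3], 7, [8, 3, 4, 7], 7), [9, 60, 86, 92, 94, 100]),
  (([5, 6, 0, 7, 3], 1, [5, 6, 7, 5], 1), [58, 72, 87, 95, 99]), (([7, 6, 0, 7, 3], 5, [1, 7, 2, 5], 6), [57, 81, 87, 94]),
  (([8, 5, 6, 7, 3], 2, [5, 8, 5, 8], 7), [36, 65, 87, 96, 99]), (([7, 5, 1, 8, 3], 3, [6, 7, 8, 2], 5), [52, 58, 80, 91, 99]),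
  (([7, 5, 3, 8, 3], 3, [8, 5, 3, 7], 3), [23, 71, 82, 92, 99, 100]), (([5, 6, 3, 8, 3], 1, [8, 3, 5, 8], 5), [48, 67, 87, 95, 100]),
  (([4, 5, 6, 8, 3], 2, [8, 5, 4, 2], 5), [5, 64, 80, 94, 99]), (([7, 5, 6, 8, 3], 2, [5, 7, 5, 7], 8), [3, 62, 73, 94]),
  (([8, 3, 6, 1, 4], 3, [5, 1, 2, 8], 8), [20, 57, 75, 88, 97, 100]), (([5, 6, 0, 2, 4], 7, [5, 6, 1, 5], 7), [54, 76, 91, 95, 99, 100]),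
  (([5, 7, 2, 3, 4], 0, [6, 0, 7, 5], 2), [60, 86, 92, 97]), (([2, 5, 6, 3, 4], 7, [5, 1, 6, 2], 7), [53, 72, 88, 97]),
  (([1, 6, 7, 5, 4], 3, [1, 6, 7, 5], 3), [67, 90, 97]), (([1, 6, 7, 5, 4], 4, [7, 3, 5, 2], 6), [56, 82, 87, 95, 100]),
  (([5, 7, 2, 6, 4], 2, [5, 6, 7, 5], 4), [62, 86, 89, 94, 99, 100]), (([5, 8, 3, 6, 4], 2, [6, 8, 3, 1], 2), [50, 56, 74, 90, 98, 99, 100]),
  (([3, 4, 5, 6, 4], 7, [3, 6, 5, 3], 7), [53, 76, 87, 98, 99]), (([1, 7, 5, 6, 4], 6, [8, 5, 1, 7], 7), [9, 60, 78, 92, 95, 99]),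
  (([7, 3, 5, 7, 4], 3, [8, 3, 4, 6], 7), [9, 66, 80, 87, 99, 100]), (([5, 7, 3, 8, 4], 1, [6, 2, 8, 7], 7), [61, 78, 89, 99]),
  (([2, 3, 6, 0, 5], 7, [5, 0, 6, 4], 7), [63, 80, 92, 98, 99]), (([7, 5, 0, 1, 5], 3, [7, 2, 0, 4], 5), [60, 77, 91, 94]),
  (([3, 4, 8, 2, 5], 0, [8, 6, 1, 3], 5), [48, 59, 74, 87, 97, 99]), (([6, 4, 8, 2, 5], 1, [8, 3, 5, 2], 6), [30, 65, 80, 90, 100]),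
  (([2, 5, 0, 3, 5], 7, [5, 2, 4, 2], 7), [57, 83, 92, 95, 99]), (([8, 5, 0, 3, 5], 2, [8, 3, 6, 3], 3), [0, 66, 93, 94, 99]),
  (([3, 5, 7, 3, 5], 1, [7, 5, 4, 7], 2), [63, 93, 95]), (([3, 7, 5, 6, 5], 1, [7, 5, 7, 2], 3), [62, 79, 93, 98, 100]),
  (([5, 3, 7, 6, 5], 1, [7, 6, 0, 1], 6), [66, 76, 89, 97, 99]), (([6, 4, 7, 6, 5], 1, [5, 7, 5, 7], 2), [67, 74, 91, 97, 99]),
  (([7, 3, 0, 7, 5], 2, [8, 5, 0, 2], 7), [9, 53, 79, 96, 99]), (([6, 3, 1, 7, 5], 0, [7, 2, 5, 0], 3), [53, 77, 97])]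

end Cfsg.Agent.Lib.Helper5.SuzMult
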