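import Mathlib

/-! Data for the bound on the stem extensions of `Suz` (generated by a script): coincidences of the large certificate,
part 12. -/

set_option autoImplicit false

namespace Cfsg.Agent.Lib.Helper5.SuzMult

def rel5_12 : List ((List ℕ × ℕ × List ℕ × ℕ) × List ℕ) := [
  (([3, 4, 2, 7, 5], 0, [4, 7, 3, 6], 3), [60, 75, 91, 99]), (([7, 8, 3, 7, 5], 5, [7, 5, 3, 7], 8), [43, 65, 84, 88]),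
  (([7, 3, 0, 8, 5], 5, [8, 3, 0, 7], 5), [23, 64, 76, 88, 95, 99]), (([6, 0, 4, 8, 5], 1, [1, 8, 3, 0], 6), [45, 60, 81, 87, 95, 99, 100]),
  (([7, 3, 5, 8, 5], 5, [8, 3, 5, 7], 5), [23, 58, 73, 90, 96, 99, 100]), (([5, 2, 6, 1, 6], 7, [5, 6, 1, 4], 7), [56, 76, 98]),
  (([7, 5, 6, 1, 6], 5, [7, 6, 3, 5], 5), [80, 89, 100]), (([7, 3, 6, 2, 6], 5, [7, 5, 1, 3], 5), [80, 91, 99, 100]),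
  (([5, 3, 6, 4, 6], 8, [6, 2, 0, 5], 8), [5, 62, 72, 89]), (([1, 7, 2, 5, 6], 3, [4, 7, 6, 0], 5), [58, 80, 89, 99, 100]),
  (([1, 8, 2, 5, 6], 3, [4, 8, 6, 0], 5), [50, 63, 83, 90, 95, 99]), (([5, 2, 7, 5, 6], 0, [7, 6, 1, 2], 5), [58, 84, 97, 99, 100]),
  (([6, 5, 0, 7, 6], 0, [5, 7, 3, 1], 2), [64, 77, 88, 98]), (([3, 6, 5, 7, 6], 0, [2, 8, 5, 7], 7), [8, 66, 84, 93, 94, 99]),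
  (([5, 7, 5, 7, 6], 3, [8, 5, 1, 2], 7), [9, 66, 80, 90, 95, 99]), (([5, 2, 6, 7, 6], 1, [6, 7, 3, 1], 2), [61, 85, 91, 99, 100]),
  (([3, 6, 4, 8, 6], 1, [5, 8, 5, 8], 1), [30, 69, 76, 93, 96, 99, 100]), (([4, 7, 8, 2, 7], 2, [4, 8, 7, 2], 2), [67, 86, 97]),
  (([7, 2, 5, 3, 7], 3, [6, 7, 3, 5], 4), [61, 74, 87, 94, 100]), (([6, 8, 7, 3, 7], 7, [6, 8, 7, 3], 7), [15, 56, 85, 88, 96]),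
  (([6, 7, 2, 5, 7], 0, [5, 7, 6, 1], 3), [67, 73, 93, 97, 100]), (([5, 8, 3, 5, 7], 0, [7, 5, 3, 8], 5), [19, 60, 75, 93, 98, 99, 100]),
  (([5, 7, 6, 5, 7], 0, [6, 7, 5, 6], 0), [65, 76, 92]), (([5, 7, 6, 5, 7], 2, [1, 7, 5, 6], 3), [54, 78, 89, 98, 99, 100]),
  (([5, 0, 8, 5, 7], 7, [5, 0, 8, 5], 7), [52, 68, 83, 96, 100]), (([4, 7, 2, 6, 7], 2, [6, 7, 6, 4], 4), [69, 85, 90, 96, 99]),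
  (([8, 5, 3, 6, 7], 6, [2, 3, 4, 6], 8), [38, 58, 85, 94, 99, 100]), (([7, 3, 4, 6, 7], 5, [7, 6, 5, 4], 6), [56, 81, 87, 95]),
  (([5, 6, 7, 6, 7], 0, [4, 7, 2, 3], 2), [65, 82, 90, 94, 99, 100]), (([7, 6, 5, 8, 7], 2, [8, 3, 8, 6], 7), [15, 66, 82, 96, 100]),
  (([7, 5, 6, 8, 7], 5, [7, 6, 5, 8], 6), [56, 78, 90, 94]), (([8, 6, 5, 1, 8], 2, [5, 8, 3, 5], 4), [43, 68, 80, 90, 98]),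
  (([1, 7, 6, 1, 8], 3, [8, 7, 2, 5], 5), [17, 64, 85, 88]), (([7, 8, 6, 3, 8], 3, [6, 8, 3, 0], 7), [48, 96, 100]),
  (([3, 0, 7, 3, 8], 8, [3, 0, 7, 3], 8), [50, 64, 77, 90, 95, 99]), (([8, 5, 7, 3, 8], 3, [6, 0, 1, 7], 5), [43, 62, 76, 98, 100]),
  (([2, 5, 0, 7, 8], 8, [2, 5, 8, 7], 8), []), (([8, 6, 5, 7, 8], 2, [7, 3, 7, 6], 8), [48, 54, 75, 88, 96]),
  (([8, 7, 5, 2, 0], 5, [7, 6, 4, 1, 8], 2), [13, 59, 74, 92, 98, 100]), (([3, 8, 6, 2, 0], 7, [7, 5, 0, 8, 5], 6), [8, 67, 89, 98, 99]),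
  (([8, 3, 7, 2, 0], 2, [3, 8, 3, 8, 7], 1), [49, 65, 83, 93, 96, 99]), (([4, 5, 8, 2, 0], 2, [6, 3, 8, 5, 1], 0), [29, 54, 84, 87, 96, 99, 100]),
  (([6, 7, 2, 3, 0], 0, [2, 3, 7, 6, 7], 0), [65, 79, 90, 97, 99]), (([6, 8, 2, 3, 0], 5, [6, 1, 8, 6, 1], 5), [0, 60, 77, 91, 98]),
  (([5, 7, 5, 3, 0], 8, [5, 0, 7, 3, 5], 8), [18, 71, 73, 92, 94, 99]), (([6, 7, 6, 3, 0], 8, [6, 0, 7, 3, 6], 8), [32, 78, 90, 97, 99, 100]),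
  (([7, 5, 2, 4, 0], 3, [7, 5, 2, 0, 4], 3), []), (([4, 8, 2, 4, 0], 3, [1, 4, 8, 2, 4], 3), []),
  (([7, 8, 3, 4, 0], 5, [7, 8, 3, 0, 4], 5), []), (([8, 7, 2, 5, 0], 5, [5, 4, 7, 6, 8], 2), [40, 70, 78, 91, 96]),
  (([5, 3, 7, 5, 0], 8, [7, 8, 2, 7, 6], 5), [37, 62, 79, 95, 100]), (([6, 5, 8, 5, 0], 7, [7, 8, 5, 7, 3], 2), [34, 70, 80, 88, 94, 99, 100]),
  (([7, 5, 0, 6, 0], 2, [5, 6, 0, 7, 3], 0), [62, 83, 91, 99, 100]), (([3, 8, 3, 6, 0], 7, [3, 0, 8, 6, 3], 7), [80, 93, 100]),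
  (([8, 5, 1, 7, 0], 3, [8, 5, 0, 1, 7], 3), []), (([5, 6, 3, 7, 0], 7, [5, 6, 3, 0, 7], 7), []),
  (([7, 3, 5, 7, 0], 2, [6, 4, 7, 6, 2], 1), [68, 81, 92, 96, 100]), (([1, 8, 6, 7, 0], 3, [7, 6, 0, 8, 3], 2), [3, 57, 79, 91, 99, 100]),
  (([7, 3, 1, 8, 0], 5, [7, 3, 0, 1, 8], 5), []), (([2, 5, 3, 8, 0], 7, [2, 5, 3, 0, 8], 7), []),
  (([5, 0, 6, 8, 0], 7, [5, 0, 6, 0, 8], 7), []), (([1, 7, 6, 8, 0], 3, [8, 6, 0, 7, 3], 2), [26, 70, 78, 90, 97, 100]),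
  (([3, 5, 7, 2, 1], 7, [3, 5, 1, 7, 2], 7), []), (([8, 3, 8, 2, 1], 5, [5, 8, 6, 1, 3], 2), [20, 57, 86, 90, 100]),
  (([1, 8, 6, 3, 1], 6, [1, 8, 5, 2, 6], 3), [13, 58, 75, 92, 98, 99]), (([2, 8, 6, 3, 1], 7, [3, 4, 2, 7, 6], 0), [10, 69, 73, 97, 99, 100]),
  (([8, 2, 7, 3, 1], 5, [5, 7, 2, 8, 3], 2), [59, 79, 96]), (([8, 6, 3, 4, 1], 6, [5, 8, 6, 4, 3], 0), [36, 67, 80, 93, 97, 99, 100]),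
  (([6, 8, 5, 4, 1], 1, [3, 4, 8, 6, 8], 1), [48, 53, 73, 92, 94, 99, 100]), (([5, 0, 6, 4, 1], 7, [1, 6, 5, 7, 3], 4), [61, 76, 89, 98, 99]),
  (([7, 6, 1, 5, 1], 6, [5, 7, 6, 5, 4], 0), [64, 78, 90, 95, 100]), (([3, 6, 3, 5, 1], 7, [6, 0, 7, 3, 5], 5), [53, 78, 93, 94, 99, 100]),
  (([8, 2, 7, 6, 1], 6, [1, 7, 2, 8, 6], 6), [86, 91]), (([2, 5, 7, 6, 1], 8, [8, 3, 6, 2, 7], 3), [29, 80, 88, 100]),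
  (([7, 5, 7, 6, 1], 6, [1, 7, 2, 5, 4], 3), [68, 75, 89, 98, 99]), (([1, 8, 7, 6, 1], 6, [6, 8, 7, 2, 6], 2), [60, 80, 91, 95, 99, 100]),
  (([6, 2, 8, 6, 1], 7, [2, 6, 8, 2, 6], 7), [63, 85, 92, 98, 99]), (([5, 4, 8, 6, 1], 7, [1, 8, 7, 2, 5], 6), [8, 62, 73, 93, 96, 99, 100]),
  (([6, 7, 8, 6, 1], 8, [2, 5, 6, 7, 8], 8), [26, 58, 79, 87]), (([8, 6, 2, 7, 1], 7, [2, 3, 7, 5, 0], 0), [9, 66, 91, 95]),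
  (([3, 7, 6, 7, 1], 8, [2, 5, 8, 5, 3], 0), [48, 57, 73, 90, 99, 100]), (([7, 8, 6, 7, 1], 6, [5, 7, 3, 4, 8], 3), [52, 58, 79, 99]),
  (([5, 7, 2, 8, 1], 4, [4, 8, 2, 7, 2], 3), [59, 79, 94, 99]), (([7, 6, 5, 8, 1], 5, [5, 7, 5, 3, 8], 1), [55, 84, 98]),
  (([8, 6, 7, 3, 2], 6, [7, 5, 8, 6, 0], 5), [41, 65, 75, 92, 97, 99, 100]), (([2, 8, 5, 4, 2], 7, [3, 7, 6, 2, 4], 0), [48, 60, 83, 93, 99]),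
  (([6, 0, 7, 5, 2], 3, [2, 5, 3, 6, 7], 0), [62, 89, 97, 100]), (([7, 5, 2, 7, 2], 2, [3, 4, 6, 7, 3], 1), [55, 74, 87, 97, 100]),
  (([7, 5, 2, 7, 2], 8, [2, 5, 7, 8, 5], 7), [25, 53, 86, 93, 96]), (([3, 5, 4, 7, 2], 7, [7, 5, 7, 2, 5], 2), [69, 81, 91, 100]),
  (([3, 6, 4, 7, 2], 7, [3, 6, 7, 2, 5], 0), [68, 75, 89, 99]), (([5, 0, 6, 7, 2], 8, [6, 7, 3, 4, 8], 2), [33, 82, 91, 96, 99, 100]),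
  (([5, 2, 7, 8, 2], 8, [2, 5, 8, 7, 5], 7), [35, 55, 81, 98, 100]), (([5, 8, 5, 0, 3], 7, [5, 8, 3, 0, 5], 7), [84, 88, 97, 99, 100]),
  (([7, 2, 6, 0, 3], 6, [7, 2, 5, 6, 0], 5), [65, 82, 90, 94, 99]), (([3, 8, 6, 0, 3], 7, [3, 8, 3, 0, 6], 7), [80, 93, 100])]

end Cfsg.Agent.Lib.Helper5.SuzMult
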