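import Mathlib

/-! Data for the bound on the stem extensions of `Suz` (generated by a script): coincidences of the large certificate,
part 13. -/

set_option autoImplicit false

namespace Cfsg.Agent.Lib.Helper5.SuzMult

def rel5_13 : List ((List ℕ × ℕ × List ℕ × ℕ) × List ℕ) := [
  (([8, 3, 6, 1, 3], 6, [6, 8, 5, 6, 4], 3), [12, 69, 73, 89, 97]), (([6, 3, 8, 5, 3], 7, [6, 3, 7, 8, 6], 1), [0, 56, 79, 87, 97, 99]),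
  (([1, 4, 8, 5, 3], 6, [6, 8, 5, 0, 1], 1), [5, 64, 73, 91, 95, 99, 100]), (([7, 6, 0, 7, 3], 3, [4, 5, 1, 7, 6], 2), [67, 76, 92, 98, 99, 100]),
  (([3, 6, 3, 7, 3], 8, [8, 6, 5, 7, 6], 2), [5, 60, 78, 88, 94]), (([7, 8, 3, 7, 3], 6, [6, 7, 6, 3, 8], 0), [15, 66, 73, 92, 94]),
  (([8, 6, 4, 7, 3], 5, [5, 7, 8, 2, 5], 3), [11, 67, 85, 92, 95]), (([3, 5, 3, 8, 3], 7, [7, 6, 5, 4, 8], 6), [8, 62, 74, 92, 95, 99, 100]),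
  (([6, 1, 5, 8, 3], 3, [4, 8, 6, 0, 5], 3), [45, 60, 73, 91, 95]), (([1, 7, 5, 8, 3], 3, [8, 5, 7, 3, 0], 2), [26, 57, 76, 89, 95, 99]),
  (([6, 7, 6, 8, 3], 8, [5, 8, 5, 2, 7], 0), [14, 67, 75, 93, 95, 99, 100]), (([8, 3, 5, 0, 4], 6, [2, 3, 8, 6, 8], 0), [30, 62, 79, 92, 98, 99]),
  (([3, 7, 6, 0, 4], 8, [5, 4, 8, 5, 7], 2), [14, 60, 83, 89, 99, 100]), (([2, 8, 6, 0, 4], 7, [2, 3, 6, 7, 3], 0), [25, 68, 79, 93, 94, 99, 100]),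
  (([4, 7, 2, 3, 4], 3, [1, 4, 7, 3, 7], 3), [66, 74, 91, 98]), (([4, 7, 5, 3, 4], 5, [7, 6, 1, 2, 7], 3), [58, 84, 98, 99, 100]),
  (([4, 8, 5, 3, 4], 5, [8, 6, 1, 2, 8], 3), [2, 59, 80, 90, 99]), (([7, 5, 6, 3, 4], 8, [6, 8, 6, 3, 8], 0), [12, 69, 75, 92, 94, 99, 100]),
  (([5, 6, 4, 5, 4], 7, [3, 5, 6, 7, 6], 1), [62, 74, 90, 94, 99]), (([5, 3, 7, 5, 4], 8, [7, 5, 8, 6, 0], 6), [51, 59, 75, 88, 94, 99]),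
  (([5, 3, 8, 5, 4], 7, [8, 5, 7, 6, 0], 6), [37, 56, 78, 87, 98, 100]), (([4, 6, 7, 6, 4], 5, [5, 4, 7, 3, 7], 1), [58, 83, 87, 98, 99]),
  (([7, 8, 2, 7, 4], 6, [8, 7, 5, 8, 2], 5), [4, 66, 74, 87, 98]), (([7, 2, 6, 7, 4], 8, [7, 2, 6, 4, 7], 8), []),
  (([8, 3, 6, 7, 4], 2, [8, 3, 6, 4, 7], 2), []), (([3, 6, 1, 8, 4], 7, [3, 4, 2, 6, 8], 7), [53, 81, 93, 98, 99]),
  (([5, 0, 2, 8, 4], 8, [3, 8, 6, 3, 1], 0), [5, 56, 88, 97]), (([3, 5, 3, 8, 4], 7, [2, 5, 0, 3, 8], 7), [57, 72, 93, 94, 100]),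
  (([8, 3, 5, 8, 4], 7, [7, 3, 7, 5, 8], 2), [9, 66, 77, 91]), (([5, 0, 6, 8, 4], 7, [5, 0, 6, 4, 8], 7), []),
  (([5, 2, 6, 8, 4], 7, [5, 2, 6, 4, 8], 7), []), (([8, 5, 6, 8, 4], 7, [8, 5, 6, 4, 8], 7), []),
  (([6, 2, 5, 1, 5], 7, [2, 6, 2, 5, 1], 7), [62, 81, 93, 94, 100]), (([8, 2, 6, 2, 5], 6, [6, 8, 5, 1, 8], 1), [9, 55, 80, 88, 96, 99, 100]),
  (([3, 8, 5, 3, 5], 7, [3, 8, 3, 5, 3], 7), []), (([5, 6, 1, 4, 5], 7, [2, 5, 6, 1, 3], 7), [65, 84, 87, 98, 99]),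
  (([8, 6, 3, 4, 5], 7, [6, 3, 5, 1, 7], 0), [9, 67, 75, 91, 97]), (([1, 8, 5, 4, 5], 6, [1, 8, 5, 0, 2], 6), [9, 62, 86, 93, 94, 100]),
  (([3, 8, 5, 6, 5], 7, [3, 8, 2, 8, 7], 0), [50, 58, 80, 90, 98, 99]), (([4, 6, 0, 7, 5], 5, [5, 6, 7, 3, 1], 1), [59, 82, 93, 96, 99]),
  (([7, 2, 5, 7, 5], 8, [5, 2, 7, 8, 2], 7), [52, 70, 80, 92, 95, 99]), (([3, 6, 5, 7, 5], 1, [6, 3, 7, 6, 7], 0), [82, 93, 100]),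
  (([6, 3, 0, 8, 5], 2, [5, 0, 8, 3, 6], 2), [16, 70, 82, 92, 94, 100]), (([5, 7, 3, 8, 5], 8, [8, 6, 7, 8, 3], 3), [12, 54, 72, 88, 98]),
  (([6, 5, 7, 8, 5], 8, [6, 2, 7, 8, 2], 8), [23, 58, 76, 90, 96, 99]), (([8, 2, 5, 0, 6], 7, [5, 6, 7, 3, 4], 1), [9, 60, 76, 92, 94, 100]),
  (([7, 6, 3, 1, 6], 5, [6, 5, 3, 0, 7], 0), [59, 75, 87, 98, 99, 100]), (([6, 7, 3, 1, 6], 5, [3, 5, 6, 0, 7], 1), [68, 80, 91, 95]),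
  (([7, 6, 1, 3, 6], 6, [5, 2, 6, 7, 3], 1), [53, 77, 95, 100]), (([3, 5, 7, 3, 6], 8, [7, 8, 5, 7, 8], 6), [23, 55, 86, 89, 94, 99, 100]),
  (([3, 5, 8, 3, 6], 7, [8, 7, 5, 8, 7], 6), [40, 68, 80, 88, 94]), (([5, 8, 6, 5, 6], 0, [5, 8, 5, 6, 5], 0), []),
  (([5, 6, 4, 7, 6], 7, [5, 7, 5, 0, 7], 1), [65, 86, 93, 98, 99, 100]), (([8, 6, 4, 7, 6], 7, [5, 3, 4, 7, 5], 0), [9, 57, 81, 88, 99, 100]),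
  (([8, 2, 3, 8, 6], 3, [3, 8, 5, 1, 8], 1), [3, 59, 83, 97, 99, 100]), (([6, 0, 4, 2, 7], 5, [4, 7, 6, 2, 3], 3), [70, 82, 88, 94]),
  (([8, 6, 7, 2, 7], 3, [1, 7, 8, 3, 8], 3), [0, 60, 78, 93, 95, 99, 100]), (([7, 5, 1, 3, 7], 6, [5, 1, 7, 6, 4], 0), [59, 76, 92, 94]),
  (([6, 5, 8, 3, 7], 7, [3, 5, 2, 8, 5], 7), [26, 61, 85, 92, 94, 99]), (([8, 3, 7, 5, 7], 5, [5, 0, 6, 3, 8], 2), [29, 68, 81, 88, 94]),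
  (([7, 5, 8, 5, 7], 5, [5, 8, 6, 2, 3], 1), [15, 69, 72, 92, 98, 99]), (([6, 7, 2, 6, 7], 4, [6, 5, 7, 6, 5], 4), [64, 73, 88, 99, 100]),
  (([1, 7, 8, 6, 7], 6, [5, 4, 8, 7, 2], 2), [1, 63, 86, 87, 95]), (([7, 2, 6, 2, 8], 8, [2, 3, 8, 5, 0], 0), [32, 58, 82, 87, 94, 99, 100]),
  (([5, 1, 7, 5, 8], 8, [8, 5, 7, 5, 6], 3), [11, 61, 83, 88, 94, 99]), (([6, 8, 5, 6, 8], 3, [5, 4, 2, 8, 5], 0), [36, 63, 74, 88, 97, 99]),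
  (([2, 3, 7, 6, 1, 0], 0, [2, 6, 7, 3, 7], 0), [53, 85, 88, 98]), (([8, 3, 0, 6, 2, 0], 2, [8, 3, 6, 0, 2], 2), [14, 63, 74, 92, 97, 100]),
  (([7, 8, 5, 4, 3, 0], 3, [5, 3, 7, 2, 6], 8), [31, 62, 73, 87, 98, 100]), (([5, 7, 3, 1, 4, 0], 0, [5, 7, 3, 4, 1], 0), []),
  (([8, 7, 2, 6, 4, 0], 5, [8, 7, 2, 6, 8], 5), [47, 63, 80, 89, 98, 100]), (([5, 7, 8, 6, 5, 0], 1, [2, 3, 8, 5, 4], 7), [47, 53, 83, 92, 98]),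
  (([8, 3, 5, 7, 5, 0], 3, [3, 8, 2, 7, 6], 7), [33, 65, 83, 91, 94, 99]), (([7, 6, 8, 7, 5, 0], 5, [2, 6, 7, 2, 6], 8), [30, 58, 84, 93, 96]),
  (([8, 7, 5, 8, 5, 0], 2, [6, 3, 1, 7, 3], 8), [20, 70, 74, 90, 96, 100]), (([7, 5, 0, 4, 6, 0], 2, [7, 2, 0, 4, 3], 5), [62, 80, 92, 99, 100]),
  (([6, 8, 7, 3, 8, 0], 1, [7, 8, 6, 7, 2], 2), [44, 66, 85, 92, 99, 100]), (([8, 7, 2, 5, 8, 0], 3, [6, 1, 7, 8, 6], 4), [40, 66, 73, 92, 98]),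
  (([1, 7, 5, 6, 8, 0], 3, [8, 5, 8, 3, 5], 7), [48, 63, 72, 88, 95, 99, 100]), (([6, 0, 7, 6, 8, 0], 1, [2, 4, 6, 8, 2], 7), [45, 64, 82, 91, 94, 100]),
  (([6, 2, 8, 5, 2, 1], 8, [6, 5, 8, 6, 4], 8), [50, 55, 84, 93, 97, 100]), (([6, 5, 0, 8, 2, 1], 7, [6, 5, 8, 2, 0], 7), []),
  (([7, 8, 5, 8, 2, 1], 3, [3, 4, 5, 8, 3], 7), [45, 71, 85, 97]), (([7, 8, 5, 4, 3, 1], 6, [5, 8, 2, 4, 6], 7), [51, 65, 74, 91, 97, 99]),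
  (([4, 7, 2, 5, 3, 1], 2, [5, 7, 5, 0, 4], 2), [61, 78, 90, 99]), (([3, 6, 8, 3, 5, 1], 0, [8, 3, 5, 8, 3], 6), [37, 61, 83, 90, 97, 99]),
  (([7, 5, 8, 2, 6, 1], 2, [5, 2, 8, 5, 2], 7), [15, 70, 72, 88, 97]), (([4, 7, 6, 4, 8, 1], 2, [1, 6, 7, 6, 8], 3), [68, 79, 89, 96]),
  (([5, 2, 4, 6, 8, 1], 0, [5, 6, 5, 0, 8], 0), [59, 79, 98, 100]), (([6, 8, 3, 7, 8, 1], 5, [5, 8, 7, 5, 2], 7), [50, 69, 74, 88, 98]),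
  (([5, 7, 2, 5, 1, 2], 0, [7, 2, 3, 4, 6], 3), [54, 82, 88]), (([5, 7, 5, 0, 3, 2], 1, [4, 5, 7, 5, 6], 2), [59, 75, 90, 97, 99]),
  (([8, 7, 2, 5, 3, 2], 5, [8, 2, 7, 6, 7], 6), [43, 63, 74, 91, 99]), (([7, 6, 8, 3, 4, 2], 5, [8, 6, 7, 5, 0], 5), [21, 61, 83, 93, 100]),
  (([4, 7, 8, 2, 6, 2], 5, [8, 2, 7, 5, 0], 5), [7, 60, 86, 93, 100]), (([3, 5, 6, 0, 7, 2], 1, [2, 5, 0, 3, 6], 7), [54, 75, 89, 94])]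

end Cfsg.Agent.Lib.Helper5.SuzMult
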