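import Mathlib

/-! Data for the bound on the stem extensions of `Suz` (generated by a script): coincidences of the large certificate,
part 14. -/

set_option autoImplicit false

namespace Cfsg.Agent.Lib.Helper5.SuzMult

def rel5_14 : List ((List ℕ × ℕ × List ℕ × ℕ) × List ℕ) := [
  (([7, 3, 8, 2, 7, 2], 5, [2, 3, 6, 4, 8], 7), [62, 84, 88, 98, 99, 100]), (([4, 8, 7, 3, 7, 2], 2, [3, 6, 1, 7, 5], 8), [7, 71, 84, 89, 96, 100]),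
  (([5, 0, 7, 5, 7, 2], 2, [7, 5, 1, 7, 5], 2), [53, 74, 89, 100]), (([3, 5, 8, 6, 8, 2], 7, [6, 8, 2, 5, 3], 7), [53, 77, 87, 98, 100]),
  (([7, 2, 3, 7, 8, 2], 3, [7, 3, 8, 2, 7], 3), [53, 81, 89, 98, 99]), (([8, 5, 1, 4, 2, 3], 2, [2, 4, 7, 5, 1], 8), [28, 62, 85, 92, 99]),
  (([4, 8, 2, 5, 4, 3], 3, [8, 3, 6, 1, 4], 5), [16, 65, 78, 88, 97]), (([6, 5, 7, 6, 4, 3], 4, [1, 7, 2, 6, 7], 6), [63, 81, 88, 97]),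
  (([4, 7, 8, 3, 6, 3], 2, [8, 7, 6, 0, 4], 2), [17, 61, 84, 95, 99, 100]), (([6, 0, 4, 7, 6, 3], 5, [6, 1, 7, 6, 1], 5), [71, 76, 87, 98, 99]),
  (([5, 2, 8, 6, 7, 3], 0, [6, 8, 7, 6, 8], 4), [27, 54, 86, 91, 98, 99]), (([3, 7, 3, 5, 8, 3], 0, [4, 6, 1, 7, 8], 5), [51, 62, 82, 90, 96, 99, 100]),
  (([7, 3, 5, 6, 8, 3], 2, [7, 5, 8, 5, 8], 3), [52, 59, 82, 91, 97, 99, 100]), (([4, 7, 2, 5, 0, 4], 2, [4, 7, 5, 0, 7], 5), [67, 74, 90, 95, 99, 100]),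
  (([5, 7, 3, 0, 1, 4], 0, [5, 7, 3, 4, 1], 0), []), (([1, 7, 5, 0, 2, 4], 6, [2, 8, 6, 3, 7], 7), [8, 58, 74, 90, 100]),
  (([4, 6, 7, 6, 2, 4], 5, [6, 7, 2, 3, 7], 5), [57, 83, 88, 97, 99, 100]), (([6, 5, 8, 6, 3, 4], 0, [7, 5, 1, 8, 6], 8), [40, 79, 87, 97]),
  (([3, 7, 6, 8, 3, 4], 1, [4, 8, 7, 5, 2], 5), [4, 61, 82, 91, 100]), (([4, 8, 6, 7, 5, 4], 5, [1, 7, 5, 8, 6], 6), [45, 59, 83, 87, 95, 100]),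
  (([3, 6, 7, 3, 6, 4], 1, [7, 5, 2, 3, 6], 2), [64, 88, 96, 99, 100]), (([5, 2, 6, 8, 6, 4], 7, [5, 1, 7, 3, 5], 8), [19, 53, 83, 98, 99, 100]),
  (([5, 2, 8, 2, 8, 4], 7, [5, 4, 2, 8, 2], 7), []), (([1, 4, 7, 6, 8, 4], 3, [4, 7, 6, 1, 8], 5), [68, 79, 92, 97, 99]),
  (([3, 5, 2, 7, 8, 4], 7, [3, 5, 2, 8, 7], 7), [53, 74]), (([4, 7, 8, 6, 0, 5], 5, [2, 3, 0, 8, 3], 7), [47, 62, 73, 90, 94, 100]),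
  (([6, 3, 7, 2, 3, 5], 0, [6, 4, 5, 1, 7], 1), [61, 92, 95, 99]), (([5, 4, 6, 0, 7, 5], 1, [4, 7, 3, 7, 2], 2), [71, 79, 94, 99, 100]),
  (([7, 8, 2, 5, 7, 5], 3, [6, 5, 8, 6, 4], 7), [46, 63, 81, 88, 96, 99]), (([3, 5, 8, 5, 7, 5], 7, [8, 3, 8, 3, 0], 7), [24, 85, 90, 95]),
  (([2, 7, 2, 6, 7, 5], 8, [5, 7, 6, 0, 7], 8), [9, 64, 84, 92, 96, 100]), (([8, 5, 8, 6, 7, 5], 2, [8, 6, 4, 7, 2], 6), [26, 63, 72, 99]),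
  (([8, 6, 2, 8, 7, 5], 3, [2, 6, 8, 5, 8], 7), [12, 63, 74, 90, 97, 99]), (([5, 7, 6, 3, 8, 5], 1, [7, 8, 5, 7, 2], 6), [31, 57, 89, 95, 100]),
  (([4, 8, 7, 5, 1, 6], 5, [3, 8, 5, 1, 2], 7), [48, 59, 85, 93, 96, 99, 100]), (([2, 3, 8, 6, 1, 6], 7, [3, 6, 4, 8, 2], 7), [63, 82, 98]),
  (([6, 5, 0, 7, 3, 6], 0, [4, 7, 2, 3, 5], 3), [64, 74, 91, 97, 100]), (([8, 3, 7, 6, 2, 7], 2, [8, 2, 7, 5, 8], 3), [13, 59, 83, 97, 100]),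
  (([4, 5, 7, 8, 2, 7], 2, [8, 7, 2, 4, 8], 5), [60, 81, 93, 97, 99]), (([6, 7, 3, 0, 4, 7], 3, [6, 0, 4, 7, 6], 5), [63, 83, 93, 94, 99]),
  (([7, 2, 5, 0, 8, 7], 5, [7, 2, 5, 7, 8], 5), []), (([5, 7, 6, 5, 8, 7], 2, [8, 5, 8, 3, 5], 7), [48, 54, 88, 94, 100]),
  (([8, 6, 0, 7, 2, 8], 5, [3, 5, 7, 5, 2], 8), [41, 54, 84, 92, 96, 99, 100]), (([1, 8, 5, 1, 3, 8], 3, [1, 6, 8, 3, 0], 4), [38, 53, 73, 90, 94, 99, 100]),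
  (([5, 7, 2, 6, 4, 8], 0, [6, 8, 7, 5, 2], 7), [23, 67, 78, 93, 96, 100]), (([5, 8, 7, 2, 5, 8], 7, [5, 3, 4, 6, 7], 8), [52, 54, 74, 89, 97]),
  (([6, 8, 3, 7, 2, 0], 7, [3, 7, 6, 8, 6, 8], 0), [38, 64, 76, 98]), (([1, 7, 8, 3, 5, 1], 3, [3, 4, 8, 6, 7, 2], 0), [21, 71, 72, 90, 95, 100]),
  (([3, 7, 8, 3, 4, 2], 8, [5, 2, 7, 6, 3, 8], 0), [46, 68, 78, 89, 98, 100]), (([7, 3, 5, 6, 2, 4], 2, [2, 5, 6, 5, 7, 6], 0), [60, 93, 94]),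
  (([7, 6, 0, 5, 1, 6], 5, [2, 5, 7, 5, 6, 3], 0), [61, 73, 90, 96, 99]), (([5, 6, 8, 5, 3, 6], 7, [5, 6, 8, 2, 7, 8], 0), [8, 66, 72, 92, 94, 100]),
  (([7, 3, 4, 6, 1, 7], 3, [5, 7, 6, 1, 4, 2], 0), [59, 75, 93, 94, 100]), (([7, 8, 6, 4, 3, 8], 2, [2, 3, 8, 6, 7, 5], 0), [29, 69, 78, 88, 94, 99])]

end Cfsg.Agent.Lib.Helper5.SuzMult
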