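import Mathlib

/-! Data for the bound on the stem extensions of `Suz` (generated by a script): coincidences of the large certificate,
part 2. -/

set_option autoImplicit false

namespace Cfsg.Agent.Lib.Helper5.SuzMult

def rel5_2 : List ((List ℕ × ℕ × List ℕ × ℕ) × List ℕ) := [
  (([5, 0, 5], 8, [5, 0], 8), [9]), (([5, 1, 5], 7, [5, 1], 7), [53, 80, 89, 99]),
  (([5, 1, 5], 8, [5, 1], 8), [0, 86, 91, 100]), (([6, 3, 5], 2, [4, 6], 5), [69, 83, 91, 97]),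
  (([3, 4, 5], 0, [5, 1], 3), [62, 82, 87, 99, 100]), (([5, 4, 5], 1, [1, 3], 4), [55, 77, 88, 98, 99]),
  (([5, 6, 5], 1, [6, 1], 5), [66, 82, 90]), (([5, 6, 5], 4, [6, 4], 5), [62, 72, 89, 96, 99, 100]),
  (([6, 7, 5], 5, [5, 6], 7), [65, 77, 93, 95]), (([6, 8, 5], 5, [5, 6], 8), [2, 64, 79, 93, 95]),
  (([6, 0, 6], 1, [6, 0], 1), [100]), (([6, 0, 6], 8, [6, 0], 8), [9]),
  (([1, 4, 6], 3, [1, 4], 3), [66, 78, 90, 97, 99]), (([3, 4, 6], 0, [1, 3], 6), [62, 72, 89, 99]),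
  (([6, 4, 6], 1, [6, 1], 4), [70, 82, 95, 99, 100]), (([6, 5, 6], 1, [6, 1], 5), [66, 82, 90]),
  (([6, 7, 6], 5, [6, 5], 7), [65, 77, 93, 95]), (([6, 8, 6], 5, [6, 5], 8), [2, 64, 79, 93, 95]),
  (([2, 4, 7], 7, [2, 4], 7), [67, 73, 90, 99]), (([7, 6, 7], 2, [7, 2], 6), [68, 76, 89, 100]),
  (([2, 8, 7], 7, [2, 8], 7), [66, 73, 90, 99]), (([3, 8, 7], 0, [7, 8], 3), [70, 77, 91, 95]),
  (([3, 8, 7], 1, [7, 8], 2), [55, 74, 96]), (([5, 8, 7], 0, [7, 8], 5), [69, 75, 93]),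
  (([6, 8, 7], 0, [7, 8], 6), [59, 80, 90, 95]), (([2, 4, 8], 8, [2, 4], 8), [8, 66, 81, 99]),
  (([8, 6, 8], 2, [8, 2], 6), [43, 66, 79, 89, 97, 99]), (([2, 7, 8], 8, [2, 7], 8), [66, 73, 90, 99]),
  (([3, 7, 8], 0, [8, 7], 3), [70, 77, 91, 95]), (([5, 7, 8], 0, [8, 7], 5), [69, 75, 93]),
  (([6, 7, 8], 0, [8, 7], 6), [59, 80, 90, 95]), (([5, 1, 0], 3, [5, 4, 2], 0), [64, 81, 87, 94, 99]),
  (([5, 1, 0], 7, [2, 4, 5], 7), [56, 79, 93, 94, 99, 100]), (([5, 1, 0], 8, [2, 4, 5], 8), [46, 60, 85, 87, 98, 99]),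
  (([6, 1, 0], 3, [3, 6, 4], 1), [97, 99]), (([6, 1, 0], 5, [6, 0, 1], 5), []),
  (([1, 3, 0], 6, [3, 4, 6], 1), [60, 73, 92, 98, 99]), (([6, 3, 0], 1, [3, 6, 4], 0), [56, 80, 89, 96, 99]),
  (([3, 4, 0], 8, [3, 0, 4], 8), []), (([5, 4, 0], 2, [2, 5, 3], 0), [69, 83, 91, 95, 99, 100]),
  (([5, 4, 0], 7, [5, 0, 4], 7), []), (([6, 4, 0], 1, [6, 0, 4], 1), []),
  (([6, 4, 0], 5, [6, 0, 4], 5), []), (([6, 4, 0], 7, [6, 0, 4], 7), []),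
  (([6, 4, 0], 8, [6, 0, 4], 8), []), (([3, 5, 0], 1, [5, 3, 4], 0), [60, 75, 87, 98, 99, 100]),
  (([5, 6, 0], 4, [2, 3, 6], 0), [83, 92, 95, 100]), (([1, 7, 0], 3, [2, 3, 7], 0), [69, 90, 96, 99]),
  (([1, 7, 0], 6, [2, 6, 7], 0), [64, 86, 87, 100]), (([3, 7, 0], 8, [3, 0, 7], 8), []),
  (([4, 7, 0], 2, [3, 4, 7], 1), [59, 85, 92, 97]), (([4, 7, 0], 3, [3, 4, 7], 0), [55, 85, 91, 96, 99, 100]),
  (([4, 7, 0], 5, [5, 4, 7], 0), [70, 74, 89, 96, 99, 100]), (([5, 7, 0], 1, [5, 1, 7], 0), [59, 85, 92, 97, 99, 100]),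
  (([5, 7, 0], 2, [5, 0, 7], 2), []), (([5, 7, 0], 3, [5, 0, 7], 3), []),
  (([5, 7, 0], 4, [1, 6, 7], 3), [56, 86, 90, 96, 99]), (([5, 7, 0], 8, [5, 0, 7], 8), []),
  (([6, 7, 0], 1, [6, 0, 7], 1), []), (([6, 7, 0], 2, [6, 0, 7], 2), []),
  (([6, 7, 0], 4, [6, 4, 7], 0), [69, 82, 91, 94, 99, 100]), (([6, 7, 0], 5, [6, 0, 7], 5), []),
  (([6, 7, 0], 8, [6, 0, 7], 8), []), (([1, 8, 0], 3, [2, 3, 8], 0), [69, 90, 96, 99]),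
  (([1, 8, 0], 6, [2, 6, 8], 0), [64, 86, 87, 100]), (([3, 8, 0], 7, [3, 0, 8], 7), []),
  (([4, 8, 0], 2, [3, 4, 8], 1), [59, 85, 92, 97]), (([4, 8, 0], 5, [5, 4, 8], 0), [70, 74, 89, 96, 99, 100]),
  (([5, 8, 0], 2, [5, 0, 8], 2), []), (([5, 8, 0], 3, [5, 0, 8], 3), []),
  (([5, 8, 0], 4, [1, 6, 8], 3), [56, 86, 90, 96, 99]), (([6, 8, 0], 1, [6, 0, 8], 1), []),
  (([6, 8, 0], 4, [6, 4, 8], 0), [69, 82, 91, 94, 99, 100]), (([6, 8, 0], 5, [6, 0, 8], 5), []),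
  (([3, 0, 1], 7, [2, 3, 0], 7), [53, 80, 89, 99]), (([5, 0, 1], 3, [5, 4, 2], 0), [64, 81, 87, 94, 99]),
  (([5, 0, 1], 7, [2, 4, 5], 7), [56, 79, 93, 94, 99, 100]), (([5, 0, 1], 8, [2, 4, 5], 8), [46, 60, 85, 87, 98, 99]),
  (([6, 0, 1], 3, [3, 6, 4], 1), [97, 99]), (([6, 0, 1], 7, [2, 6, 0], 7), [62, 81, 93, 94, 100]),
  (([6, 0, 1], 8, [2, 6, 0], 8), [12, 65, 80, 91, 95, 100]), (([5, 2, 1], 7, [5, 1, 2], 7), []),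
  (([5, 2, 1], 8, [5, 1, 2], 8), []), (([6, 2, 1], 7, [2, 6, 2], 7), [62, 81, 93, 94, 100]),
  (([6, 2, 1], 8, [2, 6, 2], 8), [12, 65, 80, 91, 95, 100]), (([7, 2, 1], 3, [1, 7, 2], 3), []),
  (([7, 2, 1], 5, [5, 7, 2], 1), [55, 80, 88, 98, 100]), (([7, 2, 1], 6, [1, 7, 2], 6), []),
  (([8, 2, 1], 3, [1, 8, 2], 3), []), (([8, 2, 1], 5, [5, 8, 2], 1), [55, 80, 88, 98, 100]),
  (([8, 2, 1], 6, [1, 8, 2], 6), []), (([6, 3, 1], 1, [6, 0, 3], 1), [56, 80, 89, 94]),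
  (([7, 3, 1], 3, [6, 7, 5], 2), [69, 82, 93, 96]), (([7, 3, 1], 8, [7, 2, 3], 8), [0, 86, 91, 100]),
  (([8, 3, 1], 3, [6, 8, 5], 2), [39, 59, 84, 89, 99, 100]), (([8, 3, 1], 7, [8, 2, 3], 7), [53, 80, 89, 99])]

end Cfsg.Agent.Lib.Helper5.SuzMult
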