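import Mathlib

/-! Data for the bound on the stem extensions of `Suz` (generated by a script): coincidences of the large certificate,
part 3. -/

set_option autoImplicit false

namespace Cfsg.Agent.Lib.Helper5.SuzMult

def rel5_3 : List ((List ℕ × ℕ × List ℕ × ℕ) × List ℕ) := [
  (([6, 4, 1], 1, [6, 0, 4], 1), [66, 72, 97, 99, 100]), (([2, 5, 1], 0, [2, 5, 0], 0), [66, 78, 90, 97, 99]),
  (([2, 5, 1], 7, [2, 5, 0], 7), [53, 74]), (([2, 5, 1], 8, [2, 5, 0], 8), [6, 86, 91, 100]),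
  (([1, 6, 1], 3, [3, 4, 2], 0), [69, 83, 91, 98, 100]), (([1, 6, 1], 4, [2, 6, 3], 0), [70, 77, 91, 95, 99, 100]),
  (([7, 6, 1], 2, [3, 7, 6], 1), [68, 72, 93, 99, 100]), (([7, 6, 1], 8, [7, 2, 6], 8), [12, 65, 80, 91, 95, 100]),
  (([8, 6, 1], 2, [3, 8, 6], 1), [45, 55, 75, 91, 98, 99, 100]), (([8, 6, 1], 7, [8, 2, 6], 7), [62, 81, 93, 94, 100]),
  (([3, 7, 1], 0, [2, 3, 7], 0), [66, 73, 90, 99]), (([3, 7, 1], 8, [2, 3, 7], 8), [0, 86, 91, 100]),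
  (([4, 7, 1], 2, [3, 4, 7], 1), [64, 80, 94]), (([4, 7, 1], 3, [4, 1, 7], 3), []),
  (([4, 7, 1], 5, [5, 3, 7], 1), [60, 74, 89, 96, 99, 100]), (([5, 7, 1], 0, [5, 1, 7], 0), []),
  (([5, 7, 1], 2, [5, 2, 7], 1), [78, 88, 96, 99, 100]), (([5, 7, 1], 4, [1, 3, 7], 4), [60, 77, 91, 98, 99]),
  (([6, 7, 1], 0, [2, 6, 7], 0), [62, 72, 89, 97]), (([6, 7, 1], 2, [3, 6, 7], 1), [69, 80, 92, 94, 99]),
  (([6, 7, 1], 3, [6, 1, 7], 3), []), (([6, 7, 1], 4, [6, 1, 7], 4), []),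
  (([6, 7, 1], 5, [6, 1, 7], 5), []), (([6, 7, 1], 8, [2, 6, 7], 8), [12, 65, 80, 91, 95, 100]),
  (([8, 7, 1], 3, [1, 8, 7], 3), []), (([8, 7, 1], 5, [5, 8, 7], 1), [55, 80, 88, 98, 100]),
  (([3, 8, 1], 7, [2, 3, 8], 7), [53, 80, 89, 99]), (([4, 8, 1], 2, [3, 4, 8], 1), [64, 80, 94]),
  (([4, 8, 1], 3, [4, 1, 8], 3), []), (([4, 8, 1], 5, [5, 3, 8], 1), [60, 74, 89, 96, 99, 100]),
  (([5, 8, 1], 0, [5, 1, 8], 0), []), (([5, 8, 1], 2, [5, 2, 8], 1), [78, 88, 96, 99, 100]),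
  (([5, 8, 1], 3, [5, 1, 8], 3), []), (([5, 8, 1], 7, [5, 1, 8], 7), []),
  (([6, 8, 1], 0, [2, 6, 8], 0), [62, 72, 89, 97]), (([6, 8, 1], 2, [3, 6, 8], 1), [69, 80, 92, 94, 99]),
  (([6, 8, 1], 7, [2, 6, 8], 7), [62, 81, 93, 94, 100]), (([7, 8, 1], 3, [1, 7, 8], 3), []),
  (([6, 0, 2], 3, [3, 4, 6], 1), [62, 82, 87, 94, 99]), (([6, 1, 2], 4, [5, 6, 1], 4), [59, 74, 93, 95, 99, 100]),
  (([6, 1, 2], 5, [4, 6, 1], 5), [60, 75, 87, 94]), (([5, 3, 2], 0, [5, 2, 3], 0), []),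
  (([5, 3, 2], 7, [5, 2, 3], 7), []), (([6, 3, 2], 1, [6, 0, 3], 1), [70, 77, 91, 96, 100]),
  (([6, 3, 2], 7, [6, 2, 3], 7), []), (([6, 3, 2], 8, [6, 2, 3], 8), []),
  (([7, 3, 2], 3, [7, 2, 3], 3), []), (([7, 3, 2], 5, [7, 2, 3], 5), []),
  (([7, 3, 2], 6, [7, 2, 3], 6), []), (([7, 3, 2], 8, [7, 2, 3], 8), []),
  (([8, 3, 2], 3, [8, 2, 3], 3), []), (([8, 3, 2], 7, [8, 2, 3], 7), []),
  (([1, 4, 2], 6, [2, 3, 6], 0), [69, 75, 93, 96]), (([6, 4, 2], 5, [4, 5, 6], 2), [60, 74, 89]),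
  (([1, 5, 2], 6, [5, 3, 6], 1), [56, 81, 90, 96, 100]), (([3, 5, 2], 1, [3, 5, 1], 1), [66, 73, 90, 99]),
  (([6, 5, 2], 1, [5, 6, 4], 0), [64, 79, 93, 98, 100]), (([6, 5, 2], 4, [5, 4, 6], 2), [56, 73, 88, 97, 100]),
  (([6, 7, 2], 1, [6, 0, 7], 1), [71, 75, 96, 99]), (([6, 8, 2], 1, [6, 0, 8], 1), [6, 70, 82, 96, 100]),
  (([5, 0, 3], 7, [3, 0, 5], 7), [84, 88, 97, 99, 100]), (([5, 0, 3], 8, [3, 0, 5], 8), [16, 77, 90, 98, 100]),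
  (([6, 0, 3], 7, [3, 0, 6], 7), [80, 93, 100]), (([6, 0, 3], 8, [3, 0, 6], 8), [13, 66, 75, 88, 99, 100]),
  (([1, 4, 3], 6, [4, 1, 6], 3), [84, 89, 94]), (([5, 4, 3], 0, [3, 5, 1], 0), [56, 79, 92, 94, 99]),
  (([5, 4, 3], 1, [3, 5, 2], 0), [64, 79, 93, 98, 100]), (([5, 4, 3], 7, [3, 5, 1], 7), [56, 79, 93, 94, 99, 100]),
  (([5, 4, 3], 8, [3, 5, 1], 8), [46, 60, 85, 87, 98, 99]), (([6, 4, 3], 5, [5, 4, 6], 2), [60, 74, 89]),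
  (([6, 5, 3], 4, [4, 5, 6], 2), [56, 73, 88, 97, 100]), (([7, 6, 3], 3, [7, 5, 0], 3), [58, 75, 92, 98, 100]),
  (([8, 6, 3], 3, [8, 5, 0], 3), [16, 68, 76, 92, 94, 100]), (([8, 7, 3], 3, [8, 6, 7], 3), [4, 67, 91, 98]),
  (([7, 8, 3], 3, [7, 6, 8], 3), [52, 71, 86, 87, 95, 99, 100]), (([5, 0, 4], 2, [2, 5, 3], 0), [69, 83, 91, 95, 99, 100]),
  (([5, 1, 4], 3, [3, 4, 5], 1), [70, 74, 89, 94, 99, 100]), (([1, 3, 4], 6, [6, 4, 2], 0), [69, 75, 93, 96]),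
  (([1, 5, 4], 6, [6, 3, 5], 0), [69, 75, 93, 96]), (([1, 6, 4], 4, [1, 6, 0], 4), [66, 77, 94, 100]),
  (([1, 7, 4], 6, [1, 4, 7], 6), []), (([2, 7, 4], 8, [2, 4, 7], 8), []),
  (([3, 7, 4], 1, [3, 4, 7], 1), []), (([3, 7, 4], 8, [3, 4, 7], 8), []),
  (([5, 7, 4], 0, [5, 4, 7], 0), []), (([5, 7, 4], 2, [5, 4, 7], 2), []),
  (([5, 7, 4], 3, [4, 5, 7], 2), [62, 81, 89, 98, 100]), (([5, 7, 4], 8, [5, 4, 7], 8), []),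
  (([6, 7, 4], 0, [6, 4, 7], 0), []), (([8, 7, 4], 2, [4, 8, 7], 2), []),
  (([8, 7, 4], 5, [4, 8, 7], 5), []), (([1, 8, 4], 3, [1, 4, 8], 3), []),
  (([1, 8, 4], 6, [1, 4, 8], 6), []), (([2, 8, 4], 7, [2, 4, 8], 7), []),
  (([3, 8, 4], 0, [3, 4, 8], 0), []), (([3, 8, 4], 7, [3, 4, 8], 7), [])]

end Cfsg.Agent.Lib.Helper5.SuzMult
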