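import Mathlib

/-! Data for the bound on the stem extensions of `Suz` (generated by a script): coincidences of the large certificate,
part 4. -/

set_option autoImplicit false

namespace Cfsg.Agent.Lib.Helper5.SuzMult

def rel5_4 : List ((List ℕ × ℕ × List ℕ × ℕ) × List ℕ) := [
  (([5, 8, 4], 0, [5, 4, 8], 0), []), (([5, 8, 4], 2, [5, 4, 8], 2), []),
  (([5, 8, 4], 3, [4, 5, 8], 2), [62, 81, 89, 98, 100]), (([5, 8, 4], 7, [5, 4, 8], 7), []),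
  (([6, 8, 4], 0, [6, 4, 8], 0), []), (([6, 8, 4], 7, [6, 4, 8], 7), []),
  (([7, 8, 4], 5, [4, 7, 8], 5), []), (([6, 0, 5], 5, [6, 5, 0], 0), [62, 92, 97, 99]),
  (([6, 0, 5], 7, [5, 0, 6], 7), [63, 80, 92, 98, 99]), (([6, 0, 5], 8, [5, 0, 6], 8), [40, 66, 79, 93, 95, 99]),
  (([4, 1, 5], 3, [5, 2, 3], 0), [69, 90, 96, 99, 100]), (([5, 2, 5], 7, [2, 5, 2], 7), []),
  (([5, 2, 5], 8, [2, 5, 2], 8), []), (([7, 2, 5], 6, [6, 4, 7], 0), [71, 79, 89, 98, 100]),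
  (([8, 2, 5], 6, [6, 4, 8], 0), [40, 55, 82, 88, 94, 99]), (([5, 3, 5], 7, [3, 5, 3], 7), []),
  (([6, 4, 5], 0, [5, 1, 6], 0), [86, 91, 95, 100]), (([6, 4, 5], 7, [5, 1, 6], 7), [85, 91, 95, 100]),
  (([6, 4, 5], 8, [5, 1, 6], 8), [9, 95]), (([7, 6, 5], 3, [7, 3, 0], 3), [53, 77, 93, 96, 100]),
  (([8, 6, 5], 3, [8, 3, 0], 3), [38, 62, 72, 91, 97, 100]), (([6, 0, 6], 5, [5, 6, 0], 0), [70, 74, 89, 96, 99, 100]),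
  (([6, 2, 6], 7, [2, 6, 2], 7), []), (([6, 2, 6], 8, [2, 6, 2], 8), []),
  (([7, 2, 6], 5, [6, 7, 3], 3), [59, 82, 88, 96, 99, 100]), (([8, 2, 6], 5, [6, 8, 3], 3), [36, 63, 76, 88]),
  (([6, 3, 6], 7, [3, 6, 3], 7), []), (([1, 5, 6], 6, [6, 5, 1], 1), [60, 82, 94, 100]),
  (([7, 5, 6], 3, [3, 7, 3], 0), [69, 78, 88, 94, 100]), (([8, 5, 6], 3, [3, 8, 3], 0), [32, 69, 74, 96]),
  (([2, 3, 7], 7, [6, 7, 5], 2), [57, 78, 93, 97, 99]), (([3, 4, 7], 7, [7, 3, 4], 3), [70, 75, 91, 98, 99, 100]),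
  (([2, 6, 7], 7, [7, 6, 1], 6), [61, 78, 93, 100]), (([3, 0, 8], 8, [8, 3, 0], 3), [16, 70, 76, 91, 96]),
  (([5, 0, 8], 8, [8, 5, 0], 5), [12, 55, 80, 91, 99, 100]), (([6, 0, 8], 8, [8, 6, 0], 6), [39, 70, 76, 89, 98, 99, 100]),
  (([2, 3, 8], 8, [6, 8, 5], 2), [0, 56, 79, 92, 99, 100]), (([8, 3, 8], 6, [7, 3, 7], 6), [6, 67, 85, 97]),
  (([6, 4, 8], 8, [8, 6, 4], 6), [39, 70, 76, 89, 98, 99, 100]), (([2, 6, 8], 8, [8, 6, 1], 6), [19, 58, 87, 94, 99]),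
  (([3, 5, 1, 0], 8, [5, 3, 1], 8), [13, 66, 86, 90, 96, 99]), (([3, 6, 1, 0], 7, [6, 3, 1], 7), [72, 92, 95, 100]),
  (([3, 5, 2, 0], 0, [5, 1, 3], 0), [83, 92, 99, 100]), (([3, 5, 2, 0], 7, [5, 1, 3], 7), [77, 90, 97, 99]),
  (([3, 5, 2, 0], 8, [5, 1, 3], 8), [13, 66, 86, 90, 96, 99]), (([6, 5, 2, 0], 0, [1, 4, 5], 6), [66, 82, 90, 96, 99, 100]),
  (([4, 7, 2, 0], 2, [4, 7, 2], 2), [66, 78, 90, 97, 99]), (([4, 8, 2, 0], 2, [4, 8, 2], 2), [66, 78, 90, 97, 99]),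
  (([5, 8, 2, 0], 0, [5, 8, 2], 1), [60, 85, 88, 94, 100]), (([2, 6, 3, 0], 7, [3, 6, 2], 7), [63, 79, 87, 95, 100]),
  (([2, 6, 3, 0], 8, [3, 6, 2], 8), [37, 66, 74, 91, 94, 99]), (([3, 7, 3, 0], 0, [8, 3, 7], 7), [9, 72, 91, 99, 100]),
  (([3, 8, 3, 0], 0, [7, 3, 8], 8), [42, 71, 72, 92, 95]), (([5, 1, 4, 0], 7, [5, 4, 1], 7), []),
  (([2, 3, 4, 0], 8, [3, 4, 1], 8), [0, 86, 91, 100]), (([3, 5, 4, 0], 7, [5, 3, 4], 7), [77, 90, 97, 99]),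
  (([2, 6, 4, 0], 7, [6, 4, 1], 7), [63, 85, 92, 98, 99]), (([3, 0, 5, 0], 7, [3, 5, 3], 7), [77, 90, 97, 99]),
  (([3, 0, 5, 0], 8, [3, 5, 3], 8), [13, 66, 86, 90, 96, 99]), (([2, 3, 5, 0], 0, [5, 2, 3], 0), [70, 85, 88, 94, 100]),
  (([2, 3, 5, 0], 7, [5, 2, 3], 7), [57, 80, 92, 94, 100]), (([2, 3, 5, 0], 8, [5, 2, 3], 8), [30, 60, 84, 92, 100]),
  (([3, 4, 5, 0], 7, [5, 4, 2], 7), [53, 72, 88, 97]), (([5, 7, 5, 0], 0, [8, 5, 7], 7), [9, 67, 86, 90, 96, 99, 100]),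
  (([5, 8, 5, 0], 0, [7, 5, 8], 8), [19, 66, 83, 90, 98, 99]), (([3, 0, 6, 0], 7, [3, 6, 3], 7), [72, 92, 95, 100]),
  (([5, 0, 6, 0], 2, [5, 0, 6], 3), [62, 81, 89, 96, 99]), (([4, 1, 6, 0], 3, [4, 1, 6], 3), [66, 78, 90, 97, 99]),
  (([5, 3, 6, 0], 0, [6, 5, 1], 4), [59, 80, 90, 98, 100]), (([8, 3, 6, 0], 7, [8, 6, 3], 7), [72, 92, 95, 100]),
  (([6, 7, 6, 0], 0, [8, 6, 7], 7), [9, 53, 80, 89, 99, 100]), (([6, 8, 6, 0], 0, [7, 6, 8], 8), [0, 66, 76, 90, 99, 100]),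
  (([8, 3, 7, 0], 3, [3, 7, 8], 8), [3, 69, 83, 91, 98, 99, 100]), (([2, 4, 7, 0], 8, [2, 4, 7], 8), [8, 86, 91, 100]),
  (([3, 5, 7, 0], 7, [5, 3, 7], 7), [77, 90, 97, 99]), (([3, 5, 7, 0], 8, [5, 3, 7], 8), [13, 66, 86, 90, 96, 99]),
  (([1, 6, 7, 0], 4, [7, 5, 2], 6), [70, 85, 93, 97, 100]), (([3, 6, 7, 0], 7, [6, 3, 7], 7), [72, 92, 95, 100]),
  (([3, 6, 7, 0], 8, [6, 3, 7], 8), [16, 76, 89, 94, 99, 100]), (([8, 6, 7, 0], 6, [6, 7, 8], 8), [39, 70, 82, 88, 95, 99]),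
  (([8, 2, 8, 0], 7, [8, 2, 8], 7), [53, 72, 88, 99]), (([7, 3, 8, 0], 3, [3, 8, 7], 7), [69, 79, 89, 99, 100]),
  (([7, 3, 8, 0], 6, [8, 3, 7], 6), [6, 53, 85, 91, 100]), (([1, 4, 8, 0], 3, [4, 1, 8], 3), []),
  (([3, 5, 8, 0], 7, [5, 3, 8], 7), [77, 90, 97, 99]), (([3, 5, 8, 0], 8, [5, 3, 8], 8), [13, 66, 86, 90, 96, 99]),
  (([7, 5, 8, 0], 5, [5, 8, 7], 7), [57, 73, 91, 95]), (([1, 6, 8, 0], 4, [8, 5, 2], 6), [39, 53, 83, 96, 99, 100]),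
  (([3, 6, 8, 0], 0, [6, 3, 8], 0), [86, 91, 97]), (([1, 7, 8, 0], 3, [1, 8, 7], 3), []),
  (([4, 7, 8, 0], 2, [4, 8, 7], 2), []), (([4, 7, 8, 0], 3, [4, 8, 7], 3), []),
  (([4, 7, 8, 0], 5, [4, 8, 7], 5), []), (([5, 7, 8, 0], 2, [5, 8, 7], 2), []),
  (([6, 7, 8, 0], 2, [6, 8, 7], 2), []), (([5, 0, 2, 1], 7, [5, 2, 0], 7), [])]

end Cfsg.Agent.Lib.Helper5.SuzMult
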