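import Mathlib

/-! Data for the bound on the stem extensions of `Suz` (generated by a script): coincidences of the large certificate,
part 5. -/

set_option autoImplicit false

namespace Cfsg.Agent.Lib.Helper5.SuzMult

def rel5_5 : List ((List ℕ × ℕ × List ℕ × ℕ) × List ℕ) := [
  (([5, 0, 2, 1], 8, [5, 2, 0], 8), []), (([3, 6, 2, 1], 0, [1, 6, 0], 4), [59, 79, 96, 100]),
  (([5, 7, 2, 1], 2, [2, 8, 5], 7), [8, 65, 74, 88, 97, 99]), (([6, 7, 2, 1], 3, [7, 3, 5], 5), [65, 81, 96, 99, 100]),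
  (([6, 7, 2, 1], 5, [6, 5, 4], 7), [54, 85, 88, 100]), (([5, 8, 2, 1], 2, [2, 7, 5], 8), [21, 69, 85, 92, 94]),
  (([6, 8, 2, 1], 3, [8, 3, 5], 5), [30, 71, 78, 89, 96, 99, 100]), (([6, 8, 2, 1], 5, [6, 5, 4], 8), [31, 67, 81, 93, 95, 99, 100]),
  (([5, 1, 3, 1], 7, [5, 2, 3], 7), []), (([2, 4, 3, 1], 8, [2, 4, 3], 8), [22, 82, 88, 94, 99]),
  (([3, 5, 3, 1], 7, [5, 4, 2], 7), [57, 73, 93, 96]), (([3, 5, 3, 1], 8, [5, 4, 2], 8), [50, 56, 79, 87, 94, 100]),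
  (([2, 6, 3, 1], 7, [6, 2, 3], 7), [63, 85, 92, 98, 99]), (([1, 7, 3, 1], 3, [7, 2, 3], 3), []),
  (([1, 7, 3, 1], 6, [7, 2, 3], 6), []), (([6, 7, 3, 1], 1, [7, 5, 4], 6), [60, 76, 91, 97, 99]),
  (([6, 7, 3, 1], 4, [7, 6, 7], 5), [59, 73, 89]), (([1, 8, 3, 1], 3, [8, 2, 3], 3), []),
  (([6, 8, 3, 1], 1, [8, 5, 4], 6), [30, 58, 81, 89, 97, 99, 100]), (([6, 8, 3, 1], 4, [8, 6, 8], 5), [34, 61, 86, 93, 96, 100]),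
  (([5, 0, 4, 1], 7, [5, 1, 4], 7), []), (([2, 3, 4, 1], 7, [3, 0, 4], 7), [53, 80, 89, 99]),
  (([2, 5, 4, 1], 7, [2, 5, 4], 7), [53, 74]), (([5, 6, 4, 1], 0, [5, 1, 6], 3), [62, 77, 89, 95, 99]),
  (([3, 0, 5, 1], 7, [3, 4, 5], 7), [56, 85, 93, 99, 100]), (([3, 0, 5, 1], 8, [3, 4, 5], 8), [38, 53, 81]),
  (([2, 3, 5, 1], 7, [3, 5, 2], 7), [57, 85, 93, 97, 100]), (([2, 3, 5, 1], 8, [3, 5, 2], 8), [37, 69, 80, 98]),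
  (([3, 0, 6, 1], 7, [6, 2, 4], 7), [62, 74, 89, 97, 99]), (([2, 3, 6, 1], 7, [6, 4, 2], 7), [63, 82, 98]),
  (([2, 3, 6, 1], 8, [6, 4, 2], 8), [5, 62, 72, 89]), (([5, 3, 6, 1], 1, [5, 6, 2], 1), [69, 77, 87, 94, 100]),
  (([3, 5, 6, 1], 1, [1, 3, 5], 6), [56, 84, 93, 96, 100]), (([6, 7, 6, 1], 2, [7, 2, 6], 6), [60, 80, 91, 95, 99, 100]),
  (([6, 7, 6, 1], 3, [7, 5, 2], 5), [56, 74, 87, 96]), (([6, 8, 6, 1], 2, [8, 2, 6], 6), [60, 80, 91, 95, 99, 100]),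
  (([6, 8, 6, 1], 3, [8, 5, 2], 5), [16, 56, 77, 90, 96]), (([5, 2, 7, 1], 0, [5, 0, 7], 2), [70, 82, 97, 99]),
  (([3, 4, 7, 1], 0, [1, 4, 7], 3), [70, 77, 91, 95]), (([6, 3, 8, 1], 2, [1, 3, 8], 6), [62, 73, 87, 97]),
  (([6, 4, 8, 1], 0, [1, 4, 8], 6), [59, 80, 90, 95]), (([4, 7, 8, 1], 2, [4, 8, 7], 2), [66, 78, 90, 97, 99]),
  (([8, 3, 0, 2], 7, [8, 3, 0], 7), [53, 80, 89, 99]), (([6, 5, 1, 2], 1, [5, 1, 6], 3), [59, 76, 90, 94, 99]),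
  (([5, 1, 3, 2], 7, [5, 3, 1], 7), []), (([5, 1, 3, 2], 8, [5, 3, 1], 8), []),
  (([6, 5, 3, 2], 1, [1, 3, 5], 6), [70, 82, 97]), (([2, 6, 3, 2], 7, [6, 3, 1], 7), [63, 85, 92, 98, 99]),
  (([5, 7, 3, 2], 1, [7, 3, 1], 5), [64, 80, 97, 99]), (([5, 7, 3, 2], 4, [5, 7, 5], 4), [58, 85, 93, 94, 99, 100]),
  (([6, 7, 3, 2], 1, [7, 5, 4], 6), [62, 77, 92, 98, 99]), (([5, 8, 3, 2], 4, [5, 8, 5], 4), [30, 57, 73, 98, 100]),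
  (([6, 8, 3, 2], 1, [8, 5, 4], 6), [30, 65, 80, 90, 100]), (([7, 8, 3, 2], 2, [8, 7, 3], 2), [2, 67, 90, 97]),
  (([6, 0, 4, 2], 1, [4, 1, 6], 3), [86, 91, 94, 99, 100]), (([5, 2, 4, 2], 1, [4, 5, 0], 2), [60, 85, 88, 94, 99]),
  (([8, 2, 4, 2], 7, [8, 2, 4], 7), [53, 76, 87, 98, 99]), (([3, 6, 4, 2], 7, [3, 6, 4], 7), [53, 76, 87, 98, 99]),
  (([3, 0, 5, 2], 7, [5, 0, 4], 7), [57, 79, 93, 98, 100]), (([3, 0, 5, 2], 8, [5, 0, 4], 8), [43, 65, 83, 91, 97]),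
  (([2, 3, 5, 2], 7, [3, 5, 1], 7), [57, 85, 93, 97, 100]), (([2, 3, 5, 2], 8, [3, 5, 1], 8), [37, 69, 80, 98]),
  (([2, 4, 5, 2], 7, [5, 2, 0], 7), [57, 73, 93, 96]), (([2, 4, 5, 2], 8, [5, 2, 0], 8), [50, 56, 79, 87, 94, 100]),
  (([3, 4, 5, 2], 7, [5, 1, 4], 7), [53, 72, 88, 97]), (([3, 4, 5, 2], 8, [5, 1, 4], 8), [8, 86, 91, 95, 100]),
  (([6, 4, 5, 2], 1, [7, 3, 7], 6), [68, 91, 98, 99]), (([1, 6, 5, 2], 4, [1, 5, 0], 6), [70, 75, 87, 98, 99]),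
  (([2, 6, 5, 2], 0, [5, 6, 4], 1), [69, 82, 91, 95]), (([4, 7, 5, 2], 2, [5, 4, 7], 2), [56, 80, 90, 96]),
  (([6, 7, 5, 2], 1, [6, 7, 3], 4), [59, 83, 88, 96, 99, 100]), (([6, 7, 5, 2], 2, [1, 7, 3], 3), [58, 79, 90, 96]),
  (([4, 8, 5, 2], 2, [5, 4, 8], 2), [20, 67, 86, 90]), (([6, 8, 5, 2], 1, [6, 8, 3], 4), [36, 63, 82, 93, 99]),
  (([5, 2, 6, 2], 0, [6, 0, 5], 3), [70, 82, 99]), (([2, 3, 6, 2], 7, [6, 4, 1], 7), [63, 82, 98]),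
  (([2, 3, 6, 2], 8, [6, 4, 1], 8), [5, 62, 72, 89]), (([3, 4, 6, 2], 7, [6, 2, 4], 7), [53, 76, 87, 98, 99]),
  (([3, 4, 6, 2], 8, [6, 2, 4], 8), [19, 66, 88, 95, 99]), (([5, 4, 6, 2], 0, [5, 6, 3], 0), [66, 86, 92, 98]),
  (([5, 4, 6, 2], 7, [5, 6, 3], 7), [53, 76, 87, 98, 99]), (([6, 7, 6, 2], 3, [7, 5, 1], 5), [56, 74, 87, 96]),
  (([5, 1, 7, 2], 0, [7, 2, 0], 5), [69, 75, 93]), (([6, 1, 7, 2], 3, [7, 3, 5], 5), [65, 81, 96, 99, 100]),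
  (([6, 1, 7, 2], 5, [6, 5, 4], 7), [54, 85, 88, 100]), (([5, 2, 7, 2], 1, [2, 8, 5], 7), [8, 65, 82, 93, 94, 99]),
  (([6, 3, 7, 2], 2, [7, 6, 4], 2), [64, 76, 93, 99, 100]), (([7, 3, 7, 2], 2, [7, 3, 7], 2), [67, 74, 90, 97]),
  (([5, 6, 7, 2], 1, [8, 6, 5], 7), [9, 65, 77, 87, 99]), (([6, 8, 7, 2], 1, [6, 8, 7], 1), [6, 71, 80, 90, 96, 99, 100]),
  (([6, 1, 8, 2], 3, [8, 3, 5], 5), [30, 71, 78, 89, 96, 99, 100]), (([6, 1, 8, 2], 5, [6, 5, 4], 8), [31, 67, 81, 93, 95, 99, 100]),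
  (([5, 2, 8, 2], 1, [2, 7, 5], 8), [21, 69, 84, 90, 97]), (([6, 3, 8, 2], 2, [8, 6, 4], 2), [14, 63, 80, 87, 97]),
  (([8, 3, 8, 2], 2, [8, 3, 8], 2), [6, 66, 78, 90, 97, 99]), (([5, 6, 8, 2], 1, [7, 6, 5], 8), [50, 63, 81, 90, 98, 100])]

end Cfsg.Agent.Lib.Helper5.SuzMult
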