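import Mathlib

/-! Data for the bound on the stem extensions of `Suz` (generated by a script): coincidences of the large certificate,
part 7. -/

set_option autoImplicit false

namespace Cfsg.Agent.Lib.Helper5.SuzMult

def rel5_7 : List ((List ℕ × ℕ × List ℕ × ℕ) × List ℕ) := [
  (([6, 4, 8, 5], 1, [8, 2, 3], 6), [30, 65, 80, 90, 100]), (([8, 6, 8, 5], 3, [6, 1, 8], 4), [29, 63, 82, 88, 94, 100]),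
  (([7, 6, 0, 6], 6, [8, 6, 7], 7), [9, 59, 73, 87, 98, 100]), (([8, 6, 0, 6], 6, [7, 6, 8], 8), [0, 59, 81, 98]),
  (([5, 3, 1, 6], 7, [6, 5, 4], 7), [85, 91, 94]), (([5, 3, 1, 6], 8, [6, 5, 4], 8), [9, 94, 100]),
  (([3, 4, 1, 6], 7, [3, 4, 1], 7), [53, 84, 91, 98]), (([3, 6, 2, 6], 7, [6, 4, 1], 7), [63, 82, 98]),
  (([3, 6, 2, 6], 8, [6, 4, 1], 8), [5, 62, 72, 89]), (([5, 6, 2, 6], 0, [6, 0, 5], 3), [70, 82, 99]),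
  (([5, 7, 2, 6], 4, [5, 7, 3], 4), [63, 77, 91, 94]), (([5, 8, 2, 6], 4, [5, 8, 3], 4), [5, 62, 78, 87, 94, 99, 100]),
  (([2, 4, 3, 6], 7, [6, 2, 0], 7), [63, 82, 98]), (([2, 4, 3, 6], 8, [6, 2, 0], 8), [5, 62, 72, 89]),
  (([5, 6, 3, 6], 0, [6, 0, 5], 2), [66, 82, 90, 97, 99]), (([6, 7, 3, 6], 2, [4, 7, 2], 5), [59, 86, 87, 95]),
  (([6, 8, 3, 6], 2, [4, 8, 2], 5), [20, 61, 78, 93, 95]), (([6, 2, 4, 6], 7, [6, 3, 4], 7), [53, 76, 87, 98, 99]),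
  (([2, 6, 4, 6], 7, [6, 4, 3], 7), [53, 76, 87, 98, 99]), (([7, 6, 4, 6], 3, [7, 6, 1], 5), [68, 79, 92, 97, 99]),
  (([8, 6, 4, 6], 3, [8, 6, 1], 5), [20, 69, 81, 88, 94, 100]), (([3, 0, 5, 6], 7, [5, 0, 2], 7), [63, 74, 98, 100]),
  (([3, 0, 5, 6], 8, [5, 0, 2], 8), [0, 62, 81, 89, 99, 100]), (([5, 4, 5, 6], 7, [6, 2, 3], 7), [53, 76, 87, 98, 99]),
  (([2, 5, 7, 6], 0, [4, 5, 7], 2), [67, 84, 91, 97, 99, 100]), (([2, 5, 8, 6], 0, [4, 5, 8], 2), [6, 66, 81, 95, 99, 100]),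
  (([8, 3, 0, 7], 3, [3, 7, 8], 8), [3, 69, 83, 91, 98, 99, 100]), (([1, 6, 0, 7], 4, [7, 5, 2], 6), [70, 85, 93, 97, 100]),
  (([6, 4, 2, 7], 1, [6, 4, 2], 1), [53, 74]), (([5, 6, 2, 7], 1, [5, 3, 6], 7), [55, 83, 91, 95, 100]),
  (([6, 7, 2, 7], 2, [7, 6, 2], 2), [69, 74, 93, 100]), (([7, 2, 3, 7], 5, [3, 6, 3], 7), [63, 85, 89, 94, 99, 100]),
  (([6, 7, 3, 7], 2, [8, 6, 5], 7), [9, 57, 80, 97, 99]), (([6, 7, 3, 7], 4, [7, 6, 1], 5), [59, 73, 89]),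
  (([7, 2, 4, 7], 3, [5, 7, 2], 4), [62, 81, 89, 98, 100]), (([3, 7, 5, 7], 0, [6, 4, 2], 7), [58, 77, 91, 98, 99]),
  (([7, 5, 6, 7], 2, [2, 6, 4], 7), [59, 72, 93, 97]), (([1, 7, 6, 7], 6, [2, 8, 6], 7), [8, 59, 84, 93, 95]),
  (([3, 7, 6, 7], 0, [5, 2, 4], 1), [53, 82, 93, 94, 99, 100]), (([6, 0, 8, 7], 3, [6, 7, 8], 3), []),
  (([2, 3, 8, 7], 0, [1, 7, 8], 3), [56, 79, 92, 96]), (([1, 6, 0, 8], 4, [8, 5, 2], 6), [39, 53, 83, 96, 99, 100]),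
  (([5, 6, 2, 8], 1, [5, 3, 6], 8), [38, 64, 80, 90, 99]), (([6, 8, 2, 8], 2, [8, 6, 2], 2), [14, 69, 73, 89, 98]),
  (([8, 2, 3, 8], 5, [3, 6, 3], 8), [46, 65, 73, 90, 97, 99]), (([1, 8, 3, 8], 3, [2, 7, 3], 8), [36, 71, 87, 98, 99, 100]),
  (([6, 8, 3, 8], 2, [7, 6, 5], 8), [42, 65, 85, 96, 100]), (([6, 8, 3, 8], 4, [8, 6, 1], 5), [34, 61, 86, 93, 96, 100]),
  (([3, 8, 5, 8], 0, [6, 4, 2], 8), [6, 59, 80, 90, 99, 100]), (([1, 8, 6, 8], 6, [2, 7, 6], 8), [20, 61, 73, 99]),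
  (([6, 8, 6, 8], 0, [7, 6, 0], 8), [0, 66, 76, 90, 99, 100]), (([3, 4, 7, 8], 1, [4, 8, 7], 2), [55, 74, 96]),
  (([6, 5, 1, 0], 0, [2, 5, 3, 6], 0), [55, 73, 93, 95, 99, 100]), (([7, 5, 1, 0], 3, [7, 5, 0, 1], 3), []),
  (([5, 6, 1, 0], 7, [3, 6, 5, 3], 7), [53, 75, 90, 99, 100]), (([8, 6, 1, 0], 5, [8, 6, 0, 1], 5), []),
  (([6, 5, 2, 0], 7, [6, 4, 1, 5], 7), [65, 77, 89, 98, 99, 100]), (([8, 6, 2, 0], 7, [7, 3, 7, 6], 2), [9, 64, 86, 88, 95, 100]),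
  (([4, 7, 2, 0], 3, [1, 4, 7, 2], 3), []), (([8, 7, 2, 0], 3, [1, 7, 8, 2], 3), []),
  (([8, 7, 2, 0], 6, [1, 7, 8, 2], 6), []), (([4, 8, 2, 0], 3, [1, 4, 8, 2], 3), []),
  (([8, 2, 3, 0], 6, [1, 8, 3, 5], 6), [29, 53, 83, 91, 95, 99]), (([2, 4, 3, 0], 8, [3, 8, 3, 8], 1), [40, 77, 87, 97]),
  (([6, 4, 3, 0], 7, [2, 3, 6, 3], 7), [63, 82, 98]), (([5, 2, 4, 0], 7, [7, 3, 6, 7], 3), [75, 88, 96, 99]),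
  (([5, 2, 4, 0], 8, [8, 3, 6, 8], 3), [3, 94, 99]), (([8, 2, 4, 0], 3, [8, 2, 0, 4], 3), []),
  (([8, 2, 4, 0], 6, [8, 2, 0, 4], 6), []), (([2, 5, 4, 0], 7, [2, 5, 0, 4], 7), []),
  (([6, 5, 4, 0], 7, [6, 0, 7, 2], 5), [61, 73, 87, 98, 99]), (([2, 6, 5, 0], 7, [6, 7, 3, 4], 5), [73]),
  (([2, 6, 5, 0], 8, [6, 8, 3, 4], 5), [40, 71, 86, 93, 95]), (([2, 7, 5, 0], 8, [5, 8, 3, 6], 1), [30, 53, 75, 87]),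
  (([4, 7, 5, 0], 2, [3, 7, 6, 2], 0), [54, 83, 89, 97, 99, 100]), (([6, 7, 5, 0], 0, [5, 7, 6, 7], 0), [65, 81, 93, 95, 100]),
  (([8, 7, 5, 0], 5, [8, 3, 5, 7], 5), [24, 58, 77, 89]), (([2, 8, 5, 0], 7, [5, 7, 3, 6], 1), [22, 59, 86, 91, 94, 100]),
  (([7, 8, 5, 0], 5, [7, 3, 5, 8], 5), [47, 63, 86, 98]), (([5, 3, 6, 0], 7, [1, 6, 5, 7], 4), [57, 73, 92, 96, 99, 100]),
  (([5, 3, 6, 0], 8, [1, 6, 5, 8], 4), [12, 53, 85, 93, 95, 99, 100]), (([2, 4, 6, 0], 7, [6, 7, 6, 7], 1), [58, 76, 88, 98, 99]),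
  (([2, 5, 6, 0], 7, [6, 4, 7, 2], 5), [60, 74]), (([2, 5, 6, 0], 8, [6, 4, 8, 2], 5), [6, 60, 85, 88, 100]),
  (([4, 5, 6, 0], 2, [2, 6, 3, 5], 0), [56, 86, 90, 94, 99]), (([3, 7, 6, 0], 1, [6, 7, 2, 7], 0), [53, 75, 87]),
  (([8, 7, 6, 0], 6, [6, 8, 3, 7], 0), [21, 60, 78, 97, 99]), (([5, 8, 6, 0], 4, [6, 8, 5, 8], 1), [48, 59, 74, 87, 95, 99, 100]),
  (([6, 1, 7, 0], 5, [6, 0, 1, 7], 5), []), (([5, 2, 7, 0], 8, [5, 2, 0, 7], 8), []),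
  (([8, 2, 7, 0], 6, [8, 6, 7, 8], 2), [14, 65, 80, 91, 96]), (([2, 3, 7, 0], 8, [2, 3, 0, 7], 8), []),
  (([7, 3, 7, 0], 6, [2, 5, 2, 6], 0), [68, 81, 87, 94, 99]), (([3, 4, 7, 0], 8, [3, 0, 4, 7], 8), []),
  (([5, 4, 7, 0], 8, [5, 0, 4, 7], 8), []), (([6, 4, 7, 0], 8, [6, 0, 4, 7], 8), [])]

end Cfsg.Agent.Lib.Helper5.SuzMult
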