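import Mathlib

/-! Data for the bound on the stem extensions of `Suz` (generated by a script): coincidences of the large certificate,
part 8. -/

set_option autoImplicit false

namespace Cfsg.Agent.Lib.Helper5.SuzMult

def rel5_8 : List ((List ℕ × ℕ × List ℕ × ℕ) × List ℕ) := [
  (([2, 5, 7, 0], 7, [2, 5, 7, 5], 0), [68, 77, 88, 97, 99, 100]), (([4, 6, 7, 0], 5, [4, 6, 0, 7], 5), []),
  (([5, 6, 7, 0], 1, [5, 6, 0, 7], 1), []), (([7, 2, 8, 0], 5, [7, 2, 0, 8], 5), []),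
  (([7, 2, 8, 0], 6, [7, 6, 8, 7], 2), [60, 76, 95, 99]), (([3, 4, 8, 0], 7, [3, 0, 4, 8], 7), []),
  (([6, 4, 8, 0], 7, [6, 0, 4, 8], 7), []), (([2, 5, 8, 0], 8, [2, 5, 8, 5], 0), [0, 69, 86, 95, 99, 100]),
  (([6, 5, 8, 0], 7, [6, 5, 0, 8], 7), []), (([8, 5, 8, 0], 7, [8, 5, 0, 8], 7), []),
  (([5, 6, 8, 0], 1, [5, 6, 0, 8], 1), []), (([5, 6, 8, 0], 7, [5, 6, 0, 8], 7), []),
  (([8, 6, 8, 0], 5, [8, 6, 0, 8], 5), []), (([7, 5, 0, 1], 6, [6, 7, 3, 4], 1), [69, 82, 87, 95, 99]),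
  (([7, 6, 0, 1], 2, [6, 7, 2, 7], 0), [57, 81, 87, 100]), (([3, 4, 2, 1], 7, [5, 7, 5, 7], 4), [59, 77, 90, 95, 100]),
  (([6, 5, 2, 1], 7, [5, 2, 3, 6], 7), [63, 85, 96, 99, 100]), (([7, 6, 2, 1], 6, [4, 7, 6, 5], 2), [66, 90, 98, 100]),
  (([8, 6, 2, 1], 2, [3, 8, 6, 2], 1), [45, 55, 75, 91, 98, 99, 100]), (([4, 7, 2, 1], 3, [5, 7, 3, 6], 0), [69, 89, 95, 99, 100]),
  (([5, 8, 2, 1], 7, [5, 1, 8, 2], 7), []), (([6, 4, 3, 1], 7, [2, 3, 6, 3], 7), [62, 76, 91, 99]),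
  (([7, 5, 3, 1], 5, [6, 5, 0, 7], 1), [54, 82, 93, 99]), (([8, 5, 3, 1], 5, [6, 5, 0, 8], 1), [2, 55, 81, 92, 94]),
  (([3, 6, 3, 1], 8, [5, 8, 3, 8], 1), [46, 66, 86, 88, 96]), (([2, 7, 3, 1], 8, [8, 2, 3, 8], 3), [38, 55, 72, 92, 96, 99, 100]),
  (([5, 2, 4, 1], 7, [2, 5, 3, 0], 7), [53, 81, 89, 96, 99, 100]), (([8, 2, 4, 1], 6, [6, 8, 2, 4], 0), [64, 80, 95, 100]),
  (([3, 5, 4, 1], 7, [6, 4, 7, 6], 5), [71, 79, 98]), (([3, 6, 4, 1], 7, [3, 6, 1, 6], 7), [62, 76, 91, 99]),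
  (([5, 6, 4, 1], 7, [3, 4, 5, 6], 7), [79, 89]), (([8, 2, 5, 1], 7, [8, 2, 5, 0], 7), [53, 74]),
  (([6, 3, 5, 1], 7, [6, 3, 5, 7], 1), [54, 78, 92, 98]), (([6, 3, 5, 1], 8, [6, 3, 5, 8], 1), [0, 55, 73, 93, 94, 99, 100]),
  (([7, 3, 5, 1], 3, [3, 6, 7, 5], 1), [62, 77, 93, 95, 100]), (([8, 3, 5, 1], 3, [3, 6, 8, 5], 1), [29, 65, 75, 89, 97, 100]),
  (([1, 7, 5, 1], 6, [5, 7, 6, 7], 1), [70, 81, 92, 97, 99, 100]), (([5, 7, 5, 1], 4, [1, 3, 7, 3], 4), [70, 75, 88, 96]),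
  (([6, 7, 5, 1], 3, [3, 4, 7, 3], 0), [65, 85, 90, 96, 100]), (([1, 8, 5, 1], 6, [5, 8, 6, 8], 1), [45, 62, 88, 95, 99, 100]),
  (([5, 8, 5, 1], 4, [1, 3, 8, 3], 4), [36, 70, 76, 88, 97, 100]), (([7, 2, 6, 1], 3, [6, 3, 7, 6], 1), [56, 86, 90, 96, 99]),
  (([5, 3, 6, 1], 7, [5, 3, 6, 7], 1), [63, 84, 93, 98, 99]), (([3, 4, 6, 1], 7, [3, 0, 6, 2], 7), [62, 86, 88, 97, 99, 100]),
  (([3, 4, 6, 1], 8, [3, 0, 6, 2], 8), [14, 58, 81, 91, 97, 99]), (([7, 5, 6, 1], 6, [5, 7, 3, 7], 2), [53, 79, 88, 95]),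
  (([1, 7, 6, 1], 6, [6, 7, 2, 6], 2), [60, 80, 91, 95, 99, 100]), (([2, 7, 6, 1], 8, [2, 7, 2, 6], 8), [18, 65, 75, 87, 95]),
  (([3, 7, 6, 1], 0, [2, 5, 3, 7], 0), [68, 73, 91, 94, 99, 100]), (([3, 0, 7, 1], 8, [2, 3, 0, 7], 8), [0, 86, 91, 100]),
  (([6, 0, 7, 1], 5, [6, 0, 1, 7], 5), []), (([2, 5, 7, 1], 7, [2, 5, 7, 5], 0), [69, 80, 87, 95, 100]),
  (([6, 5, 7, 1], 1, [5, 7, 3, 5], 0), [61, 72, 96, 99]), (([7, 5, 7, 1], 6, [3, 5, 7, 6], 1), [70, 89, 96, 100]),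
  (([3, 6, 7, 1], 7, [1, 7, 3, 5], 3), [53, 78, 98, 100]), (([5, 6, 7, 1], 4, [7, 3, 5, 3], 3), [53, 97, 99]),
  (([5, 6, 7, 1], 7, [4, 7, 5, 3], 3), [62, 89, 96, 99]), (([4, 8, 7, 1], 3, [1, 4, 7, 8], 3), []),
  (([6, 8, 7, 1], 5, [8, 5, 7, 3], 3), [17, 61, 79, 92, 97]), (([3, 0, 8, 1], 7, [2, 3, 0, 8], 7), [53, 80, 89, 99]),
  (([6, 0, 8, 1], 5, [6, 0, 1, 8], 5), []), (([5, 3, 8, 1], 0, [5, 3, 1, 8], 0), []),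
  (([3, 4, 8, 1], 7, [3, 4, 1, 8], 7), []), (([2, 5, 8, 1], 7, [2, 5, 0, 8], 7), [53, 74]),
  (([6, 5, 8, 1], 1, [5, 8, 3, 5], 0), [48, 53, 75, 87, 96]), (([6, 5, 8, 1], 4, [6, 5, 1, 8], 4), []),
  (([4, 6, 8, 1], 5, [4, 6, 1, 8], 5), []), (([5, 6, 8, 1], 4, [8, 3, 5, 3], 3), [2, 97, 99]),
  (([5, 6, 8, 1], 8, [4, 8, 5, 3], 3), [14, 58, 73, 96, 99, 100]), (([6, 7, 8, 1], 5, [7, 5, 8, 3], 3), [46, 57, 78, 87, 95, 99]),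
  (([6, 5, 1, 2], 8, [5, 2, 3, 6], 8), [37, 66, 76, 91, 97, 99, 100]), (([7, 5, 1, 2], 6, [3, 6, 2, 7], 0), [71, 79, 88, 98, 100]),
  (([7, 6, 1, 2], 6, [4, 7, 6, 5], 2), [66, 90, 98, 100]), (([6, 5, 3, 2], 8, [3, 5, 6, 8], 1), [39, 54, 85, 88, 100]),
  (([3, 6, 3, 2], 7, [3, 4, 6, 0], 7), [63, 80, 92, 96, 99, 100]), (([7, 6, 3, 2], 2, [7, 6, 2, 3], 2), []),
  (([8, 6, 3, 2], 7, [8, 6, 2, 3], 7), []), (([6, 7, 3, 2], 3, [1, 7, 5, 4], 3), [54, 72, 92, 96, 100]),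
  (([3, 8, 3, 2], 7, [3, 8, 2, 3], 7), []), (([6, 0, 4, 2], 7, [2, 3, 6, 0], 7), [62, 76, 91, 99]),
  (([8, 2, 4, 2], 5, [4, 8, 5, 8], 2), [30, 69, 94, 99, 100]), (([5, 6, 4, 2], 8, [6, 8, 3, 8], 3), [30, 71, 85, 90, 97, 99]),
  (([7, 6, 4, 2], 3, [5, 6, 4, 7], 0), [57, 76, 87, 97]), (([8, 6, 4, 2], 3, [5, 6, 4, 8], 0), [37, 69, 86, 87, 96, 99, 100]),
  (([8, 6, 4, 2], 7, [7, 3, 5, 7], 3), [9, 67, 78, 95, 100]), (([6, 2, 5, 2], 7, [3, 5, 3, 6], 7), []),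
  (([6, 3, 5, 2], 1, [5, 6, 5, 4], 0), [64, 79, 93, 98, 100]), (([6, 3, 5, 2], 8, [6, 8, 3, 4], 5), [3, 70, 80, 91, 98, 99, 100]),
  (([1, 4, 5, 2], 6, [2, 5, 3, 6], 0), [69, 75, 93, 96]), (([5, 4, 5, 2], 7, [2, 3, 4, 3], 7), []),
  (([4, 7, 5, 2], 5, [1, 7, 2, 6], 3), [70, 79, 87, 98, 100]), (([6, 7, 5, 2], 3, [1, 4, 7, 3], 3), [54, 72, 92, 96, 100]),
  (([4, 8, 5, 2], 5, [1, 8, 2, 6], 3), [3, 70, 85, 88, 100]), (([5, 0, 6, 2], 7, [5, 0, 4, 6], 7), [65, 79, 92, 95, 99]),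
  (([5, 2, 6, 2], 7, [3, 6, 3, 5], 7), []), (([8, 2, 6, 2], 3, [3, 8, 6, 5], 0), [32, 69, 74, 96])]

end Cfsg.Agent.Lib.Helper5.SuzMult
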