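import Mathlib

/-! Data for the bound on the stem extensions of `Suz` (generated by a script): coincidences of the large certificate,
part 9. -/

set_option autoImplicit false

namespace Cfsg.Agent.Lib.Helper5.SuzMult

def rel5_9 : List ((List ℕ × ℕ × List ℕ × ℕ) × List ℕ) := [
  (([2, 5, 6, 2], 8, [6, 1, 4, 8], 5), [6, 60, 85, 88, 100]), (([7, 5, 6, 2], 5, [1, 4, 7, 6], 3), [70, 79, 87, 98, 100]),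
  (([8, 5, 6, 2], 5, [1, 4, 8, 6], 3), [3, 70, 85, 88, 100]), (([2, 8, 6, 2], 7, [7, 6, 2, 7], 6), [50, 54, 77, 93, 96, 99]),
  (([5, 2, 7, 2], 7, [2, 4, 8, 5], 7), [8, 71, 76, 91]), (([5, 2, 7, 2], 8, [2, 5, 8, 5], 7), [22, 67, 80, 89, 94, 99]),
  (([6, 0, 8, 2], 3, [5, 8, 5, 3], 0), [5, 60, 82, 98, 99, 100]), (([8, 6, 8, 2], 5, [6, 8, 5, 1], 1), [19, 66, 86, 90, 94, 99, 100]),
  (([6, 5, 0, 3], 4, [5, 2, 6, 0], 0), [83, 92, 96, 100]), (([7, 6, 0, 3], 8, [7, 3, 0, 6], 8), [13, 66, 75, 88, 99, 100]),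
  (([3, 4, 1, 3], 7, [5, 7, 5, 7], 4), [58, 82, 88, 95]), (([6, 5, 1, 3], 7, [1, 3, 5, 7], 6), [64, 83, 92, 100]),
  (([3, 6, 1, 3], 7, [2, 3, 6, 4], 7), [53, 81, 93, 98, 99]), (([5, 6, 1, 3], 7, [5, 4, 6, 1], 7), [53, 76, 87, 98, 99]),
  (([5, 6, 2, 3], 1, [2, 5, 4, 6], 0), [64, 79, 93, 98, 100]), (([6, 0, 4, 3], 5, [5, 2, 6, 1], 0), [64, 79, 93, 94, 99]),
  (([7, 2, 4, 3], 6, [6, 0, 5, 7], 1), [63, 77, 91, 96, 99, 100]), (([5, 3, 4, 3], 0, [3, 5, 1, 4], 0), [56, 79, 92, 94, 99]),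
  (([8, 3, 4, 3], 5, [4, 8, 3, 4], 5), []), (([3, 5, 4, 3], 7, [2, 5, 0, 4], 7), [57, 72, 93, 94, 100]),
  (([7, 5, 4, 3], 5, [1, 7, 3, 6], 3), [70, 79, 87, 98, 100]), (([5, 6, 4, 3], 7, [3, 4, 6, 5], 7), []),
  (([5, 6, 4, 3], 8, [3, 4, 6, 5], 8), []), (([6, 1, 5, 3], 3, [5, 6, 5, 4], 0), [55, 74, 96, 100]),
  (([6, 2, 5, 3], 0, [2, 5, 3, 6], 0), []), (([6, 2, 5, 3], 8, [6, 8, 2, 4], 5), [3, 70, 80, 91, 98, 99, 100]),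
  (([5, 4, 5, 3], 7, [2, 3, 4, 2], 7), []), (([7, 3, 6, 3], 5, [1, 4, 7, 5], 3), [70, 79, 87, 98, 100]),
  (([5, 7, 6, 3], 4, [5, 7, 5, 6], 4), [71, 83, 89, 96, 99]), (([6, 7, 6, 3], 3, [6, 5, 0, 7], 1), [53, 75, 93, 96]),
  (([4, 8, 6, 3], 5, [1, 8, 5, 6], 3), [3, 70, 85, 88, 100]), (([5, 8, 6, 3], 4, [5, 8, 5, 6], 4), [40, 55, 75, 92, 98, 99, 100]),
  (([6, 0, 7, 3], 3, [5, 7, 5, 2], 0), [61, 77, 88, 98, 99, 100]), (([8, 3, 7, 3], 3, [7, 5, 7, 8], 3), [46, 68, 90, 96, 100]),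
  (([6, 5, 7, 3], 7, [2, 3, 7, 5], 0), [57, 80, 89, 97]), (([5, 6, 7, 3], 7, [3, 5, 6, 7], 0), [81, 90, 97, 99]),
  (([5, 0, 8, 3], 3, [5, 0, 6, 8], 3), [6, 64, 86, 87, 98]), (([6, 3, 8, 3], 8, [6, 3, 8, 6], 0), [13, 79, 90, 97, 100]),
  (([2, 4, 8, 3], 7, [3, 7, 2, 7], 0), [10, 56, 85, 92, 97]), (([5, 2, 0, 4], 8, [8, 3, 6, 8], 3), [3, 94, 99]),
  (([6, 2, 0, 4], 7, [5, 7, 3, 7], 1), [55, 84, 91, 98]), (([6, 5, 0, 4], 7, [6, 0, 7, 2], 5), [61, 73, 87, 98, 99]),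
  (([8, 6, 0, 4], 5, [4, 8, 6, 1], 3), [34, 56, 81, 91]), (([6, 3, 1, 4], 7, [3, 6, 1, 6], 7), [62, 86, 88, 97, 99, 100]),
  (([6, 5, 1, 4], 8, [6, 8, 2, 0], 5), [34, 53, 77, 91, 100]), (([2, 5, 2, 4], 7, [2, 5, 0, 2], 7), [57, 72, 93, 94, 100]),
  (([5, 7, 2, 4], 3, [5, 7, 2, 7], 2), [66, 81, 94]), (([6, 2, 3, 4], 7, [3, 6, 1, 2], 7), [53, 72, 87, 97, 100]),
  (([6, 1, 5, 4], 3, [6, 0, 4, 5], 1), [66, 77, 98, 99, 100]), (([6, 3, 5, 4], 7, [2, 6, 0, 5], 7), [77, 95]),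
  (([7, 3, 5, 4], 6, [6, 7, 2, 3], 0), [71, 79, 89, 98, 100]), (([1, 6, 5, 4], 4, [5, 2, 4, 6], 1), [70, 81, 93, 94, 99, 100]),
  (([8, 6, 5, 4], 2, [5, 8, 5, 6], 2), [30, 60, 73, 91, 94, 99]), (([6, 7, 5, 4], 3, [4, 7, 3, 7], 2), [68, 79, 88, 96, 99]),
  (([4, 8, 5, 4], 3, [3, 8, 2, 6], 0), [32, 69, 74, 96]), (([5, 1, 6, 4], 0, [2, 3, 6, 5], 0), [86, 91, 94]),
  (([5, 1, 6, 4], 7, [2, 3, 6, 5], 7), [85, 91, 94]), (([8, 3, 6, 4], 3, [5, 2, 8, 5], 0), [46, 62, 78, 89, 100]),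
  (([4, 7, 6, 4], 5, [6, 7, 5, 7], 4), [53, 84, 93, 95, 99, 100]), (([3, 0, 7, 4], 8, [3, 0, 4, 7], 8), []),
  (([6, 0, 7, 4], 5, [6, 0, 4, 7], 5), []), (([7, 2, 7, 4], 5, [4, 5, 7, 2], 2), [56, 79, 92, 96, 99]),
  (([7, 2, 7, 4], 8, [2, 4, 7, 2], 8), [19, 66, 88, 95, 99]), (([3, 5, 7, 4], 7, [3, 5, 4, 7], 7), []),
  (([3, 6, 7, 4], 7, [3, 6, 4, 7], 7), []), (([7, 6, 7, 4], 3, [7, 6, 4, 7], 3), []),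
  (([3, 0, 8, 4], 7, [3, 0, 4, 8], 7), []), (([6, 0, 8, 4], 1, [6, 0, 4, 8], 1), []),
  (([6, 0, 8, 4], 5, [6, 0, 4, 8], 5), []), (([6, 2, 8, 4], 7, [6, 2, 4, 8], 7), []),
  (([5, 3, 8, 4], 7, [5, 3, 4, 8], 7), []), (([5, 3, 8, 4], 8, [5, 3, 4, 8], 8), []),
  (([6, 3, 8, 4], 7, [6, 3, 4, 8], 7), []), (([7, 3, 8, 4], 5, [7, 3, 4, 8], 5), []),
  (([2, 5, 8, 4], 7, [2, 5, 4, 8], 7), []), (([3, 5, 8, 4], 8, [3, 5, 4, 8], 8), []),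
  (([3, 6, 8, 4], 1, [3, 6, 4, 8], 1), []), (([3, 6, 8, 4], 7, [3, 6, 4, 8], 7), []),
  (([7, 2, 0, 5], 3, [3, 6, 1, 7], 0), [53, 86, 87, 96, 100]), (([7, 6, 0, 5], 3, [3, 7, 5, 3], 0), [58, 81, 88, 99, 100]),
  (([8, 6, 0, 5], 7, [5, 6, 5, 7], 0), [9, 68, 84, 89, 98]), (([5, 3, 1, 5], 7, [7, 3, 6, 7], 3), [68, 86, 89, 96, 99]),
  (([6, 3, 1, 5], 7, [5, 6, 2, 0], 7), [55, 76, 91, 98, 99]), (([5, 4, 1, 5], 7, [2, 3, 4, 2], 7), [57, 79, 93, 94, 99, 100]),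
  (([8, 5, 1, 5], 3, [1, 8, 5, 1], 3), []), (([6, 4, 2, 5], 7, [6, 0, 1, 7], 5), [86, 99, 100]),
  (([6, 5, 2, 5], 8, [3, 5, 3, 6], 8), []), (([8, 5, 2, 5], 6, [6, 4, 8, 2], 0), [40, 55, 82, 88, 94, 99]),
  (([5, 6, 2, 5], 7, [3, 5, 6, 2], 7), []), (([7, 6, 2, 5], 3, [3, 7, 5, 6], 0), [69, 78, 88, 94, 100]),
  (([8, 6, 2, 5], 2, [5, 3, 1, 8], 0), [6, 72, 90, 96, 99, 100]), (([2, 7, 2, 5], 8, [4, 8, 2, 6], 3), [39, 55, 84, 96]),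
  (([2, 8, 2, 5], 7, [4, 7, 2, 6], 3), [46, 68, 80, 93, 97, 99]), (([6, 4, 3, 5], 7, [5, 3, 4, 6], 7), []),
  (([5, 6, 3, 5], 7, [2, 5, 6, 3], 7), []), (([8, 2, 4, 5], 3, [8, 6, 0, 2], 2), [46, 55, 72, 91, 99, 100])]

end Cfsg.Agent.Lib.Helper5.SuzMult
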