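import Cfsg.Agent.Lib.Helper5.SuzMult.Gen
import Cfsg.Agent.Lib.Helper5.SuzMult.Data
import Cfsg.Agent.Lib.Helper5.SuzMult.Trv
import Cfsg.Agent.Lib.Lead.CoxOut.SuzData
import Cfsg.Agent.Lib.Helper5.SuzMult.Rel5_0
import Cfsg.Agent.Lib.Helper5.SuzMult.Rel5_1
import Cfsg.Agent.Lib.Helper5.SuzMult.Rel5_2
import Cfsg.Agent.Lib.Helper5.SuzMult.Rel5_3
import Cfsg.Agent.Lib.Helper5.SuzMult.Rel5_4
import Cfsg.Agent.Lib.Helper5.SuzMult.Rel5_5
import Cfsg.Agent.Lib.Helper5.SuzMult.Rel5_6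
import Cfsg.Agent.Lib.Helper5.SuzMult.Rel5_7
import Cfsg.Agent.Lib.Helper5.SuzMult.Rel5_8
import Cfsg.Agent.Lib.Helper5.SuzMult.Rel5_9
import Cfsg.Agent.Lib.Helper5.SuzMult.Rel5_10
import Cfsg.Agent.Lib.Helper5.SuzMult.Rel5_11
import Cfsg.Agent.Lib.Helper5.SuzMult.Rel5_12
import Cfsg.Agent.Lib.Helper5.SuzMult.Rel5_13
import Cfsg.Agent.Lib.Helper5.SuzMult.Rel5_14
import Cfsg.Agent.Lib.Helper5.SuzMult.Tab5_0
import Cfsg.Agent.Lib.Helper5.SuzMult.Tab5_1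

/-!
# The certificates for the bound on the stem extensions of `Suz`: definitions

Six coset certificates (`24`, `7`, `36`, `200`, `416` and `5346` rows: the chain
`S₄ < L₂(7) < U₃(3) < 2·J₂ < 2·G₂(4) < 6·Suz`) read from packed numerals.  The words of the certificates are one triple
and products of two palindromes in nine conjugates of the base involution `a` with the same point in the cosets of a
perfect subgroup of the centraliser of `a` in the group of permutations of 1782 points.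
-/

set_option autoImplicit false

namespace Cfsg.Agent.Lib.Helper5.SuzMult

open Cfsg.Agent.PL
open Cfsg.Agent.Lib.Helper5.J3Mult (FCert palW)

/-- the code of the base involution, the generator `a` -/
def czS : ℕ := Cfsg.Agent.CoxOut.Suz.cg0

/-- the check of a coincidence -/
noncomputable def relS (c : (List ℕ × ℕ × List ℕ × ℕ) × List ℕ) : Bool := relOKw 1782 czS scodesL gcodesL trvL c

/-- the word of the triple -/
def tripW : List ℕ := palW tripA.1 tripA.2 ++ (palW tripC.1 tripC.2 ++ palW tripU.1 tripU.2)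

/-- the coincidences of the large certificate -/
def rel5 : List ((List ℕ × ℕ × List ℕ × ℕ) × List ℕ) := rel5_0 ++ (rel5_1 ++ (rel5_2 ++ (rel5_3 ++ (rel5_4 ++ (rel5_5 ++ (rel5_6 ++ (rel5_7 ++ (rel5_8 ++ (rel5_9 ++ (rel5_10 ++ (rel5_11 ++ (rel5_12 ++ (rel5_13 ++ rel5_14)))))))))))))

noncomputable def chA3_n0_0 (j : ℕ) : ℕ := (Bool.rec (motive := fun _ => ℕ) (Bool.rec (motive := fun _ => ℕ) cA3_0 (Bool.rec (motive := fun _ => ℕ) cA3_1 cA3_2 (Nat.ble 2 j)) (Nat.ble 1 j)) (Bool.rec (motive := fun _ => ℕ) cA3_3 (Bool.rec (motive := fun _ => ℕ) cA3_4 cA3_5 (Nat.ble 5 j)) (Nat.ble 4 j)) (Nat.ble 3 j))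

/-- the chunks of the table of the certificate 3 -/
noncomputable def chunkA3 (j : ℕ) : ℕ := chA3_n0_0 j

noncomputable def chA4_n0_0 (j : ℕ) : ℕ := (Bool.rec (motive := fun _ => ℕ) (Bool.rec (motive := fun _ => ℕ) (Bool.rec (motive := fun _ => ℕ) cA4_0 cA4_1 (Nat.ble 1 j)) (Bool.rec (motive := fun _ => ℕ) cA4_2 cA4_3 (Nat.ble 3 j)) (Nat.ble 2 j)) (Bool.rec (motive := fun _ => ℕ) (Bool.rec (motive := fun _ => ℕ) cA4_4 cA4_5 (Nat.ble 5 j)) (Bool.rec (motive := fun _ => ℕ) cA4_6 cA4_7 (Nat.ble 7 j)) (Nat.ble 6 j)) (Nat.ble 4 j))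
noncomputable def chA4_n0_1 (j : ℕ) : ℕ := (Bool.rec (motive := fun _ => ℕ) (Bool.rec (motive := fun _ => ℕ) cA4_8 cA4_9 (Nat.ble 9 j)) (Bool.rec (motive := fun _ => ℕ) cA4_10 (Bool.rec (motive := fun _ => ℕ) cA4_11 cA4_12 (Nat.ble 12 j)) (Nat.ble 11 j)) (Nat.ble 10 j))
noncomputable def chA4_n1_0 (j : ℕ) : ℕ := (Bool.rec (motive := fun _ => ℕ) (chA4_n0_0 j) (chA4_n0_1 j) (Nat.ble 8 j))

/-- the chunks of the table of the certificate 4 -/
noncomputable def chunkA4 (j : ℕ) : ℕ := chA4_n1_0 j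

/-! the chunks of the table of the large certificate, selected by a tree of definitions with eight branches each -/

noncomputable def chA5_n0_0 (j : ℕ) : ℕ := (Bool.rec (motive := fun _ => ℕ) (Bool.rec (motive := fun _ => ℕ) (Bool.rec (motive := fun _ => ℕ) cA5_0 cA5_1 (Nat.ble 1 j)) (Bool.rec (motive := fun _ => ℕ) cA5_2 cA5_3 (Nat.ble 3 j)) (Nat.ble 2 j)) (Bool.rec (motive := fun _ => ℕ) (Bool.rec (motive := fun _ => ℕ) cA5_4 cA5_5 (Nat.ble 5 j)) (Bool.rec (motive := fun _ => ℕ) cA5_6 cA5_7 (Nat.ble 7 j)) (Nat.ble 6 j)) (Nat.ble 4 j))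
noncomputable def chA5_n0_1 (j : ℕ) : ℕ := (Bool.rec (motive := fun _ => ℕ) (Bool.rec (motive := fun _ => ℕ) (Bool.rec (motive := fun _ => ℕ) cA5_8 cA5_9 (Nat.ble 9 j)) (Bool.rec (motive := fun _ => ℕ) cA5_10 cA5_11 (Nat.ble 11 j)) (Nat.ble 10 j)) (Bool.rec (motive := fun _ => ℕ) (Bool.rec (motive := fun _ => ℕ) cA5_12 cA5_13 (Nat.ble 13 j)) (Bool.rec (motive := fun _ => ℕ) cA5_14 cA5_15 (Nat.ble 15 j)) (Nat.ble 14 j)) (Nat.ble 12 j))
noncomputable def chA5_n0_2 (j : ℕ) : ℕ := (Bool.rec (motive := fun _ => ℕ) (Bool.rec (motive := fun _ => ℕ) (Bool.rec (motive := fun _ => ℕ) cA5_16 cA5_17 (Nat.ble 17 j)) (Bool.rec (motive := fun _ => ℕ) cA5_18 cA5_19 (Nat.ble 19 j)) (Nat.ble 18 j)) (Bool.rec (motive := fun _ => ℕ) (Bool.rec (motive := fun _ => ℕ) cA5_20 cA5_21 (Nat.ble 21 j)) (Bool.rec (motive := fun _ => ℕ) cA5_22 cA5_23 (Nat.ble 23 j)) (Nat.ble 22 j)) (Nat.ble 20 j))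
noncomputable def chA5_n0_3 (j : ℕ) : ℕ := (Bool.rec (motive := fun _ => ℕ) (Bool.rec (motive := fun _ => ℕ) (Bool.rec (motive := fun _ => ℕ) cA5_24 cA5_25 (Nat.ble 25 j)) (Bool.rec (motive := fun _ => ℕ) cA5_26 cA5_27 (Nat.ble 27 j)) (Nat.ble 26 j)) (Bool.rec (motive := fun _ => ℕ) (Bool.rec (motive := fun _ => ℕ) cA5_28 cA5_29 (Nat.ble 29 j)) (Bool.rec (motive := fun _ => ℕ) cA5_30 cA5_31 (Nat.ble 31 j)) (Nat.ble 30 j)) (Nat.ble 28 j))
noncomputable def chA5_n0_4 (j : ℕ) : ℕ := (Bool.rec (motive := fun _ => ℕ) (Bool.rec (motive := fun _ => ℕ) (Bool.rec (motive := fun _ => ℕ) cA5_32 cA5_33 (Nat.ble 33 j)) (Bool.rec (motive := fun _ => ℕ) cA5_34 cA5_35 (Nat.ble 35 j)) (Nat.ble 34 j)) (Bool.rec (motive := fun _ => ℕ) (Bool.rec (motive := fun _ => ℕ) cA5_36 cA5_37 (Nat.ble 37 j)) (Bool.rec (motive := fun _ => ℕ) cA5_38 cA5_39 (Nat.ble 39 j)) (Nat.ble 38 j)) (Nat.ble 36 j))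
noncomputable def chA5_n0_5 (j : ℕ) : ℕ := (Bool.rec (motive := fun _ => ℕ) (Bool.rec (motive := fun _ => ℕ) (Bool.rec (motive := fun _ => ℕ) cA5_40 cA5_41 (Nat.ble 41 j)) (Bool.rec (motive := fun _ => ℕ) cA5_42 cA5_43 (Nat.ble 43 j)) (Nat.ble 42 j)) (Bool.rec (motive := fun _ => ℕ) (Bool.rec (motive := fun _ => ℕ) cA5_44 cA5_45 (Nat.ble 45 j)) (Bool.rec (motive := fun _ => ℕ) cA5_46 cA5_47 (Nat.ble 47 j)) (Nat.ble 46 j)) (Nat.ble 44 j))
noncomputable def chA5_n0_6 (j : ℕ) : ℕ := (Bool.rec (motive := fun _ => ℕ) (Bool.rec (motive := fun _ => ℕ) (Bool.rec (motive := fun _ => ℕ) cA5_48 cA5_49 (Nat.ble 49 j)) (Bool.rec (motive := fun _ => ℕ) cA5_50 cA5_51 (Nat.ble 51 j)) (Nat.ble 50 j)) (Bool.rec (motive := fun _ => ℕ) (Bool.rec (motive := fun _ => ℕ) cA5_52 cA5_53 (Nat.ble 53 j)) (Bool.rec (motive := fun _ => ℕ) cA5_54 cA5_55 (Nat.ble 55 j)) (Nat.ble 54 j)) (Nat.ble 52 j))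
noncomputable def chA5_n0_7 (j : ℕ) : ℕ := (Bool.rec (motive := fun _ => ℕ) (Bool.rec (motive := fun _ => ℕ) (Bool.rec (motive := fun _ => ℕ) cA5_56 cA5_57 (Nat.ble 57 j)) (Bool.rec (motive := fun _ => ℕ) cA5_58 cA5_59 (Nat.ble 59 j)) (Nat.ble 58 j)) (Bool.rec (motive := fun _ => ℕ) (Bool.rec (motive := fun _ => ℕ) cA5_60 cA5_61 (Nat.ble 61 j)) (Bool.rec (motive := fun _ => ℕ) cA5_62 cA5_63 (Nat.ble 63 j)) (Nat.ble 62 j)) (Nat.ble 60 j))
noncomputable def chA5_n0_8 (j : ℕ) : ℕ := (Bool.rec (motive := fun _ => ℕ) (Bool.rec (motive := fun _ => ℕ) (Bool.rec (motive := fun _ => ℕ) cA5_64 cA5_65 (Nat.ble 65 j)) (Bool.rec (motive := fun _ => ℕ) cA5_66 cA5_67 (Nat.ble 67 j)) (Nat.ble 66 j)) (Bool.rec (motive := fun _ => ℕ) (Bool.rec (motive := fun _ => ℕ) cA5_68 cA5_69 (Nat.ble 69 j)) (Bool.rec (motive := fun _ => ℕ) cA5_70 cA5_71 (Nat.ble 71 j)) (Nat.ble 70 j)) (Nat.ble 68 j))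
noncomputable def chA5_n0_9 (j : ℕ) : ℕ := (Bool.rec (motive := fun _ => ℕ) (Bool.rec (motive := fun _ => ℕ) (Bool.rec (motive := fun _ => ℕ) cA5_72 cA5_73 (Nat.ble 73 j)) (Bool.rec (motive := fun _ => ℕ) cA5_74 cA5_75 (Nat.ble 75 j)) (Nat.ble 74 j)) (Bool.rec (motive := fun _ => ℕ) (Bool.rec (motive := fun _ => ℕ) cA5_76 cA5_77 (Nat.ble 77 j)) (Bool.rec (motive := fun _ => ℕ) cA5_78 cA5_79 (Nat.ble 79 j)) (Nat.ble 78 j)) (Nat.ble 76 j))
noncomputable def chA5_n0_10 (j : ℕ) : ℕ := (Bool.rec (motive := fun _ => ℕ) (Bool.rec (motive := fun _ => ℕ) (Bool.rec (motive := fun _ => ℕ) cA5_80 cA5_81 (Nat.ble 81 j)) (Bool.rec (motive := fun _ => ℕ) cA5_82 cA5_83 (Nat.ble 83 j)) (Nat.ble 82 j)) (Bool.rec (motive := fun _ => ℕ) (Bool.rec (motive := fun _ => ℕ) cA5_84 cA5_85 (Nat.ble 85 j)) (Bool.rec (motive := fun _ => ℕ) cA5_86 cA5_87 (Nat.ble 87 j)) (Nat.ble 86 j)) (Nat.ble 84 j))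
noncomputable def chA5_n0_11 (j : ℕ) : ℕ := (Bool.rec (motive := fun _ => ℕ) (Bool.rec (motive := fun _ => ℕ) (Bool.rec (motive := fun _ => ℕ) cA5_88 cA5_89 (Nat.ble 89 j)) (Bool.rec (motive := fun _ => ℕ) cA5_90 cA5_91 (Nat.ble 91 j)) (Nat.ble 90 j)) (Bool.rec (motive := fun _ => ℕ) (Bool.rec (motive := fun _ => ℕ) cA5_92 cA5_93 (Nat.ble 93 j)) (Bool.rec (motive := fun _ => ℕ) cA5_94 cA5_95 (Nat.ble 95 j)) (Nat.ble 94 j)) (Nat.ble 92 j))
noncomputable def chA5_n0_12 (j : ℕ) : ℕ := (Bool.rec (motive := fun _ => ℕ) (Bool.rec (motive := fun _ => ℕ) (Bool.rec (motive := fun _ => ℕ) cA5_96 cA5_97 (Nat.ble 97 j)) (Bool.rec (motive := fun _ => ℕ) cA5_98 cA5_99 (Nat.ble 99 j)) (Nat.ble 98 j)) (Bool.rec (motive := fun _ => ℕ) (Bool.rec (motive := fun _ => ℕ) cA5_100 cA5_101 (Nat.ble 101 j)) (Bool.rec (motive := fun _ => ℕ) cA5_102 cA5_103 (Nat.ble 103 j)) (Nat.ble 102 j)) (Nat.ble 100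 j))
noncomputable def chA5_n0_13 (j : ℕ) : ℕ := (Bool.rec (motive := fun _ => ℕ) (Bool.rec (motive := fun _ => ℕ) (Bool.rec (motive := fun _ => ℕ) cA5_104 cA5_105 (Nat.ble 105 j)) (Bool.rec (motive := fun _ => ℕ) cA5_106 cA5_107 (Nat.ble 107 j)) (Nat.ble 106 j)) (Bool.rec (motive := fun _ => ℕ) (Bool.rec (motive := fun _ => ℕ) cA5_108 cA5_109 (Nat.ble 109 j)) (Bool.rec (motive := fun _ => ℕ) cA5_110 cA5_111 (Nat.ble 111 j)) (Nat.ble 110 j)) (Nat.ble 108 j))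
noncomputable def chA5_n0_14 (j : ℕ) : ℕ := (Bool.rec (motive := fun _ => ℕ) (Bool.rec (motive := fun _ => ℕ) (Bool.rec (motive := fun _ => ℕ) cA5_112 cA5_113 (Nat.ble 113 j)) (Bool.rec (motive := fun _ => ℕ) cA5_114 cA5_115 (Nat.ble 115 j)) (Nat.ble 114 j)) (Bool.rec (motive := fun _ => ℕ) (Bool.rec (motive := fun _ => ℕ) cA5_116 cA5_117 (Nat.ble 117 j)) (Bool.rec (motive := fun _ => ℕ) cA5_118 cA5_119 (Nat.ble 119 j)) (Nat.ble 118 j)) (Nat.ble 116 j))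
noncomputable def chA5_n0_15 (j : ℕ) : ℕ := (Bool.rec (motive := fun _ => ℕ) (Bool.rec (motive := fun _ => ℕ) (Bool.rec (motive := fun _ => ℕ) cA5_120 cA5_121 (Nat.ble 121 j)) (Bool.rec (motive := fun _ => ℕ) cA5_122 cA5_123 (Nat.ble 123 j)) (Nat.ble 122 j)) (Bool.rec (motive := fun _ => ℕ) (Bool.rec (motive := fun _ => ℕ) cA5_124 cA5_125 (Nat.ble 125 j)) (Bool.rec (motive := fun _ => ℕ) cA5_126 cA5_127 (Nat.ble 127 j)) (Nat.ble 126 j)) (Nat.ble 124 j))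
noncomputable def chA5_n0_16 (j : ℕ) : ℕ := (Bool.rec (motive := fun _ => ℕ) (Bool.rec (motive := fun _ => ℕ) (Bool.rec (motive := fun _ => ℕ) cA5_128 cA5_129 (Nat.ble 129 j)) (Bool.rec (motive := fun _ => ℕ) cA5_130 cA5_131 (Nat.ble 131 j)) (Nat.ble 130 j)) (Bool.rec (motive := fun _ => ℕ) (Bool.rec (motive := fun _ => ℕ) cA5_132 cA5_133 (Nat.ble 133 j)) (Bool.rec (motive := fun _ => ℕ) cA5_134 cA5_135 (Nat.ble 135 j)) (Nat.ble 134 j)) (Nat.ble 132 j))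
noncomputable def chA5_n0_17 (j : ℕ) : ℕ := (Bool.rec (motive := fun _ => ℕ) (Bool.rec (motive := fun _ => ℕ) (Bool.rec (motive := fun _ => ℕ) cA5_136 cA5_137 (Nat.ble 137 j)) (Bool.rec (motive := fun _ => ℕ) cA5_138 cA5_139 (Nat.ble 139 j)) (Nat.ble 138 j)) (Bool.rec (motive := fun _ => ℕ) (Bool.rec (motive := fun _ => ℕ) cA5_140 cA5_141 (Nat.ble 141 j)) (Bool.rec (motive := fun _ => ℕ) cA5_142 cA5_143 (Nat.ble 143 j)) (Nat.ble 142 j)) (Nat.ble 140 j))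
noncomputable def chA5_n0_18 (j : ℕ) : ℕ := (Bool.rec (motive := fun _ => ℕ) (Bool.rec (motive := fun _ => ℕ) (Bool.rec (motive := fun _ => ℕ) cA5_144 cA5_145 (Nat.ble 145 j)) (Bool.rec (motive := fun _ => ℕ) cA5_146 cA5_147 (Nat.ble 147 j)) (Nat.ble 146 j)) (Bool.rec (motive := fun _ => ℕ) (Bool.rec (motive := fun _ => ℕ) cA5_148 cA5_149 (Nat.ble 149 j)) (Bool.rec (motive := fun _ => ℕ) cA5_150 cA5_151 (Nat.ble 151 j)) (Nat.ble 150 j)) (Nat.ble 148 j))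
noncomputable def chA5_n0_19 (j : ℕ) : ℕ := (Bool.rec (motive := fun _ => ℕ) (Bool.rec (motive := fun _ => ℕ) (Bool.rec (motive := fun _ => ℕ) cA5_152 cA5_153 (Nat.ble 153 j)) (Bool.rec (motive := fun _ => ℕ) cA5_154 cA5_155 (Nat.ble 155 j)) (Nat.ble 154 j)) (Bool.rec (motive := fun _ => ℕ) (Bool.rec (motive := fun _ => ℕ) cA5_156 cA5_157 (Nat.ble 157 j)) (Bool.rec (motive := fun _ => ℕ) cA5_158 cA5_159 (Nat.ble 159 j)) (Nat.ble 158 j)) (Nat.ble 156 j))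
noncomputable def chA5_n0_20 (j : ℕ) : ℕ := (Bool.rec (motive := fun _ => ℕ) (Bool.rec (motive := fun _ => ℕ) (Bool.rec (motive := fun _ => ℕ) cA5_160 cA5_161 (Nat.ble 161 j)) (Bool.rec (motive := fun _ => ℕ) cA5_162 cA5_163 (Nat.ble 163 j)) (Nat.ble 162 j)) (Bool.rec (motive := fun _ => ℕ) (Bool.rec (motive := fun _ => ℕ) cA5_164 cA5_165 (Nat.ble 165 j)) (Bool.rec (motive := fun _ => ℕ) cA5_166 cA5_167 (Nat.ble 167 j)) (Nat.ble 166 j)) (Nat.ble 164 j))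
noncomputable def chA5_n0_21 (j : ℕ) : ℕ := (Bool.rec (motive := fun _ => ℕ) (Bool.rec (motive := fun _ => ℕ) (Bool.rec (motive := fun _ => ℕ) cA5_168 cA5_169 (Nat.ble 169 j)) (Bool.rec (motive := fun _ => ℕ) cA5_170 cA5_171 (Nat.ble 171 j)) (Nat.ble 170 j)) (Bool.rec (motive := fun _ => ℕ) (Bool.rec (motive := fun _ => ℕ) cA5_172 cA5_173 (Nat.ble 173 j)) (Bool.rec (motive := fun _ => ℕ) cA5_174 cA5_175 (Nat.ble 175 j)) (Nat.ble 174 j)) (Nat.ble 172 j))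
noncomputable def chA5_n0_22 (j : ℕ) : ℕ := (Bool.rec (motive := fun _ => ℕ) (Bool.rec (motive := fun _ => ℕ) (Bool.rec (motive := fun _ => ℕ) cA5_176 cA5_177 (Nat.ble 177 j)) (Bool.rec (motive := fun _ => ℕ) cA5_178 cA5_179 (Nat.ble 179 j)) (Nat.ble 178 j)) (Bool.rec (motive := fun _ => ℕ) (Bool.rec (motive := fun _ => ℕ) cA5_180 cA5_181 (Nat.ble 181 j)) (Bool.rec (motive := fun _ => ℕ) cA5_182 cA5_183 (Nat.ble 183 j)) (Nat.ble 182 j)) (Nat.ble 180 j))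
noncomputable def chA5_n0_23 (j : ℕ) : ℕ := (Bool.rec (motive := fun _ => ℕ) (Bool.rec (motive := fun _ => ℕ) cA5_184 cA5_185 (Nat.ble 185 j)) (Bool.rec (motive := fun _ => ℕ) cA5_186 cA5_187 (Nat.ble 187 j)) (Nat.ble 186 j))
noncomputable def chA5_n1_0 (j : ℕ) : ℕ := (Bool.rec (motive := fun _ => ℕ) (Bool.rec (motive := fun _ => ℕ) (Bool.rec (motive := fun _ => ℕ) (chA5_n0_0 j) (chA5_n0_1 j) (Nat.ble 8 j)) (Bool.rec (motive := fun _ => ℕ) (chA5_n0_2 j) (chA5_n0_3 j) (Nat.ble 24 j)) (Nat.ble 16 j)) (Bool.rec (motive := fun _ => ℕ) (Bool.rec (motive := fun _ => ℕ) (chA5_n0_4 j) (chA5_n0_5 j) (Nat.ble 40 j)) (Bool.rec (motive := fun _ => ℕ) (chA5_n0_6 j) (chA5_n0_7 j) (Nat.ble 56 j)) (Nat.ble 48 j)) (Nat.ble 32 j))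
noncomputable def chA5_n1_1 (j : ℕ) : ℕ := (Bool.rec (motive := fun _ => ℕ) (Bool.rec (motive := fun _ => ℕ) (Bool.rec (motive := fun _ => ℕ) (chA5_n0_8 j) (chA5_n0_9 j) (Nat.ble 72 j)) (Bool.rec (motive := fun _ => ℕ) (chA5_n0_10 j) (chA5_n0_11 j) (Nat.ble 88 j)) (Nat.ble 80 j)) (Bool.rec (motive := fun _ => ℕ) (Bool.rec (motive := fun _ => ℕ) (chA5_n0_12 j) (chA5_n0_13 j) (Nat.ble 104 j)) (Bool.rec (motive := fun _ => ℕ) (chA5_n0_14 j) (chA5_n0_15 j) (Nat.ble 120 j)) (Nat.ble 112 j)) (Nat.ble 96 j))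
noncomputable def chA5_n1_2 (j : ℕ) : ℕ := (Bool.rec (motive := fun _ => ℕ) (Bool.rec (motive := fun _ => ℕ) (Bool.rec (motive := fun _ => ℕ) (chA5_n0_16 j) (chA5_n0_17 j) (Nat.ble 136 j)) (Bool.rec (motive := fun _ => ℕ) (chA5_n0_18 j) (chA5_n0_19 j) (Nat.ble 152 j)) (Nat.ble 144 j)) (Bool.rec (motive := fun _ => ℕ) (Bool.rec (motive := fun _ => ℕ) (chA5_n0_20 j) (chA5_n0_21 j) (Nat.ble 168 j)) (Bool.rec (motive := fun _ => ℕ) (chA5_n0_22 j) (chA5_n0_23 j) (Nat.ble 184 j)) (Nat.ble 176 j)) (Nat.ble 160 j))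
noncomputable def chA5_n2_0 (j : ℕ) : ℕ := (Bool.rec (motive := fun _ => ℕ) (chA5_n1_0 j) (Bool.rec (motive := fun _ => ℕ) (chA5_n1_1 j) (chA5_n1_2 j) (Nat.ble 128 j)) (Nat.ble 64 j))

/-- the chunks of the table of the large certificate -/
noncomputable def chunkA5 (j : ℕ) : ℕ := chA5_n2_0 j

noncomputable def pchA5_n0_0 (j : ℕ) : ℕ := (Bool.rec (motive := fun _ => ℕ) qA5_0 (Bool.rec (motive := fun _ => ℕ) qA5_1 qA5_2 (Nat.ble 2 j)) (Nat.ble 1 j))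

/-- the chunks of the definitions of the rows of the large certificate -/
noncomputable def pchunkA5 (j : ℕ) : ℕ := pchA5_n0_0 j

noncomputable def entA5 (i : ℕ) : ℕ := (chunkA5 (i / 256) >>> (74 * (i % 256))) % 18889465931478580854784
noncomputable def parA5 (b : ℕ) : ℕ := (pchunkA5 (b / 2048) >>> (19 * (b % 2048))) % 524288
noncomputable def entA4 (i : ℕ) : ℕ := (chunkA4 (i / 256) >>> (74 * (i % 256))) % 18889465931478580854784
def parA4 (b : ℕ) : ℕ := (qA4 >>> (19 * b)) % 524288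
noncomputable def entA3 (i : ℕ) : ℕ := (chunkA3 (i / 256) >>> (74 * (i % 256))) % 18889465931478580854784
def parA3 (b : ℕ) : ℕ := (qA3 >>> (19 * b)) % 524288
def entA2 (i : ℕ) : ℕ := (cA2 >>> (74 * i)) % 18889465931478580854784
def parA2 (b : ℕ) : ℕ := (qA2 >>> (19 * b)) % 524288
def entA1 (i : ℕ) : ℕ := (cA1 >>> (74 * i)) % 18889465931478580854784
def parA1 (b : ℕ) : ℕ := (qA1 >>> (19 * b)) % 524288
def entA0 (i : ℕ) : ℕ := (cA0 >>> (74 * i)) % 18889465931478580854784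
def parA0 (b : ℕ) : ℕ := (qA0 >>> (19 * b)) % 524288

/-- the words of a certificate: the triple, then the coincidences -/
def WS (rel : List ((List ℕ × ℕ × List ℕ × ℕ) × List ℕ)) (k : ℕ) : List ℕ :=
  Nat.rec (motive := fun _ => List ℕ) tripW (fun k' _ => longW (rel.getD k' c0w).1) k

theorem WS_zero (rel : List ((List ℕ × ℕ × List ℕ × ℕ) × List ℕ)) : WS rel 0 = tripW := rfl

theorem WS_succ (rel : List ((List ℕ × ℕ × List ℕ × ℕ) × List ℕ)) (k : ℕ) :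
    WS rel (k + 1) = longW (rel.getD k c0w).1 := rfl

/-- the six certificates -/
def certA0 : FCert := mkCert 24 4 0 entA0 parA0 (WS rel0)
def certA1 : FCert := mkCert 7 5 4 entA1 parA1 (WS rel1)
def certA2 : FCert := mkCert 36 6 5 entA2 parA2 (WS rel2)
noncomputable def certA3 : FCert := mkCert 200 7 6 entA3 parA3 (WS rel3)
noncomputable def certA4 : FCert := mkCert 416 8 7 entA4 parA4 (WS rel4)
noncomputable def certA5 : FCert := mkCert 5346 9 8 entA5 parA5 (WS rel5)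

/-- the rows of a range are checked as soon as each of them is -/
theorem rowsOK_of_forall (C : FCert) {lo len : ℕ} (h : ∀ a, lo ≤ a → a < lo + len → C.rowOK a = true) :
    C.rowsOK lo len = true := by
  rw [FCert.rowsOK, List.all_eq_true]
  intro i hi
  have hi' := List.mem_range.1 hi
  exact h _ (Nat.le_add_right _ _) (by omega)

/-- a row of a checked range -/
theorem row_of_rows (C : FCert) {lo len : ℕ} (h : C.rowsOK lo len = true) {a : ℕ} (h1 : lo ≤ a) (h2 : a < lo + len) :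
    C.rowOK a = true := by
  rw [FCert.rowsOK, List.all_eq_true] at h
  have h3 := h (a - lo) (List.mem_range.2 (by omega))
  rwa [show lo + (a - lo) = a by omega] at h3

/-- a check of a list in two parts -/
theorem all_split {α : Type*} (p : α → Bool) (n : ℕ) (l : List α) (h1 : (l.take n).all p = true)
    (h2 : (l.drop n).all p = true) : l.all p = true := by
  rw [← List.take_append_drop n l, List.all_append, h1, h2]
  rfl

end Cfsg.Agent.Lib.Helper5.SuzMult
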