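import Cfsg.Agent.Lib.Helper5.SuzMult.C

/-! The checks for the stem extensions of `Suz` that the kernel evaluates: codes of the family and of the generators of
the subgroup of the centraliser -/

set_option autoImplicit false
set_option maxRecDepth 100000

namespace Cfsg.Agent.Lib.Helper5.SuzMult

open Cfsg.Agent.PL Cfsg.Agent.CoxOut.Suz

theorem chk_cz : Nat.beq (pmul 1782 czS czS) (pone 1782) = true := by decide +kernel

theorem chk_gcodes : gwords.map (wordG 1782 cgs) = gcodesL := by decide +kernel

theorem chk_scodes : scodesL = gcodesL.map (fun g => conjC 1782 g czS) := by decide +kernel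

theorem chk_kcodes : kpals.map (fun p => conjC 1782 (palG 1782 czS scodesL gcodesL p) czS) = kcodesL := by
  decide +kernel

theorem chk_kcomm : kcodesL.all (fun k => Nat.beq (pmul 1782 k czS) (pmul 1782 czS k) &&
    Nat.beq (pmul 1782 k k) (pone 1782)) = true := by decide +kernel

theorem chk_klink : (List.range 5).all (fun i =>
    Nat.beq (wordG 1782 kcodesL [i, kpar i, i, kpar i, i, kpar i]) (pone 1782)) = true := by decide +kernel

theorem chk_kword : Nat.beq (wordG 1782 kcodesL kword) (pone 1782) = true := by decide +kernel

theorem chk_kpar : (List.range 5).all (fun i => Nat.blt (kpar i) 5 && Nat.beq (kpar^[5] i) 0) = true ∧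
    kword.all (fun x => Nat.blt x 5) = true ∧ kword.length % 2 = 1 := by decide +kernel

end Cfsg.Agent.Lib.Helper5.SuzMult
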