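import Cfsg.Agent.Lib.Helper5.SuzMult.C

/-! The checks for the stem extensions of `Suz` that the kernel evaluates: generators, the triple, letters, the rows of
the small certificates -/

set_option autoImplicit false
set_option maxRecDepth 100000

namespace Cfsg.Agent.Lib.Helper5.SuzMult

open Cfsg.Agent.PL Cfsg.Agent.CoxOut.Suz

theorem chk_slpGen : runK 1782 slpGen ((List.range 9).reverse.map fun i => scodesL.getD i czS)
    (fun r => idxGen.map fun i => r.getD i (pone 1782)) = cgs := by decide +kernel

theorem chk_tripA : Nat.beq (pmul 1782 (conjC 1782 (palG 1782 czS scodesL gcodesL tripA) czS)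
      (conjC 1782 (palG 1782 czS scodesL gcodesL tripC) czS))
    (conjC 1782 (palG 1782 czS scodesL gcodesL tripU) czS) = true ∧
    Nat.beq (pmul 1782 (conjC 1782 (palG 1782 czS scodesL gcodesL tripC) czS) (palG 1782 czS scodesL gcodesL tripA))
      (pmul 1782 (palG 1782 czS scodesL gcodesL tripA) (wordG 1782 trvL tripWit)) = true := by
  decide +kernel

theorem chk_letA : rel0.all (fun c => letOK 4 c.1) = true ∧ rel1.all (fun c => letOK 5 c.1) = true ∧
    rel2.all (fun c => letOK 6 c.1) = true ∧ rel3.all (fun c => letOK 7 c.1) = true ∧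
    rel4.all (fun c => letOK 8 c.1) = true ∧ rel5.all (fun c => letOK 9 c.1) = true ∧
    tripW.all (fun x => Nat.blt x 4) = true := by decide +kernel

theorem chk_c0w : relS c0w = true := by decide +kernel

theorem chk_cA0 : certA0.rowsOK 0 24 = true := by decide +kernel

theorem chk_cA1 : certA1.rowsOK 0 7 = true := by decide +kernel

theorem chk_cA2 : certA2.rowsOK 0 36 = true := by decide +kernel

theorem chk_cA3 : certA3.rowsOK 0 200 = true := by decide +kernel

end Cfsg.Agent.Lib.Helper5.SuzMult
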