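import Cfsg.Agent.Lib.Helper5.SuzMult.C

/-! The coincidences of the coset certificate 3 for the stem extensions of `Suz`, checked by the kernel (part 2, in
pieces to keep the memory of one check small) -/

set_option autoImplicit false
set_option maxRecDepth 100000

namespace Cfsg.Agent.Lib.Helper5.SuzMult

open Cfsg.Agent.PL Cfsg.Agent.CoxOut.Suz

theorem chk_rel3_g2 : (((rel3.drop 28).drop 22).take 19).all relS = true := by decide +kernel

end Cfsg.Agent.Lib.Helper5.SuzMult
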