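import Cfsg.Agent.Lib.Helper5.SuzMult.C

/-! The rows of the fifth coset certificate for the stem extensions of `Suz`, checked by the kernel (part 0) -/

set_option autoImplicit false
set_option maxRecDepth 100000

namespace Cfsg.Agent.Lib.Helper5.SuzMult

open Cfsg.Agent.PL Cfsg.Agent.CoxOut.Suz

theorem chk_certA4_0_0 : certA4.rowsOK 0 208 = true := by decide +kernel
theorem chk_certA4_0_1 : certA4.rowsOK 208 208 = true := by decide +kernel

theorem chk_certA4_0 : certA4.rowsOK 0 416 = true := by
  apply rowsOK_of_forall
  intro a hlo hhi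
  rcases Nat.lt_or_ge a 208 with h | h0
  · exact row_of_rows certA4 chk_certA4_0_0 (by omega) (by omega)
  exact row_of_rows certA4 chk_certA4_0_1 (by omega) (by omega)

end Cfsg.Agent.Lib.Helper5.SuzMult
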