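import Cfsg.Agent.Lib.Helper5.SuzMult.C

/-! The rows of the large coset certificate for the stem extensions of `Suz`, checked by the kernel (part 1, in
ranges of 297 rows to keep the memory of one check small) -/

set_option autoImplicit false
set_option maxRecDepth 100000

namespace Cfsg.Agent.Lib.Helper5.SuzMult

open Cfsg.Agent.PL Cfsg.Agent.CoxOut.Suz

theorem chk_certA5_1_0 : certA5.rowsOK 891 297 = true := by decide +kernel
theorem chk_certA5_1_1 : certA5.rowsOK 1188 297 = true := by decide +kernel
theorem chk_certA5_1_2 : certA5.rowsOK 1485 297 = true := by decide +kernel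

theorem chk_certA5_1 : certA5.rowsOK 891 891 = true := by
  apply rowsOK_of_forall
  intro a hlo hhi
  rcases Nat.lt_or_ge a 1188 with h | h0
  · exact row_of_rows certA5 chk_certA5_1_0 (by omega) (by omega)
  rcases Nat.lt_or_ge a 1485 with h | h1
  · exact row_of_rows certA5 chk_certA5_1_1 (by omega) (by omega)
  exact row_of_rows certA5 chk_certA5_1_2 (by omega) (by omega)

end Cfsg.Agent.Lib.Helper5.SuzMult
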