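import Cfsg.Agent.Lib.Helper5.SuzMult.C

/-! The checks for the stem extensions of `Suz` that the kernel evaluates: the transversal elements of the subgroup of the
centraliser -/

set_option autoImplicit false
set_option maxRecDepth 100000

namespace Cfsg.Agent.Lib.Helper5.SuzMult

open Cfsg.Agent.PL Cfsg.Agent.CoxOut.Suz

theorem chk_trv : runK 1782 trvProg ((List.range 5).reverse.map fun i => kcodesL.getD i (pone 1782))
    (fun r => trvIdx.map fun i => r.getD i (pone 1782)) = trvL := by decide +kernel

end Cfsg.Agent.Lib.Helper5.SuzMult
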