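import Cfsg.Agent.Lib.Helper5.SuzMult.ChkR0_0
import Cfsg.Agent.Lib.Helper5.SuzMult.ChkR1_0
import Cfsg.Agent.Lib.Helper5.SuzMult.ChkR2_0
import Cfsg.Agent.Lib.Helper5.SuzMult.ChkR3_0
import Cfsg.Agent.Lib.Helper5.SuzMult.ChkR3_1
import Cfsg.Agent.Lib.Helper5.SuzMult.ChkR3_2
import Cfsg.Agent.Lib.Helper5.SuzMult.ChkR3_3
import Cfsg.Agent.Lib.Helper5.SuzMult.ChkR3_4
import Cfsg.Agent.Lib.Helper5.SuzMult.ChkR4_0
import Cfsg.Agent.Lib.Helper5.SuzMult.ChkR4_1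
import Cfsg.Agent.Lib.Helper5.SuzMult.ChkR4_2
import Cfsg.Agent.Lib.Helper5.SuzMult.ChkR4_3
import Cfsg.Agent.Lib.Helper5.SuzMult.ChkR4_4
import Cfsg.Agent.Lib.Helper5.SuzMult.ChkR4_5
import Cfsg.Agent.Lib.Helper5.SuzMult.ChkR4_6
import Cfsg.Agent.Lib.Helper5.SuzMult.ChkR4_7
import Cfsg.Agent.Lib.Helper5.SuzMult.ChkR4_8
import Cfsg.Agent.Lib.Helper5.SuzMult.ChkR4_9
import Cfsg.Agent.Lib.Helper5.SuzMult.ChkR4_10
import Cfsg.Agent.Lib.Helper5.SuzMult.ChkR4_11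
import Cfsg.Agent.Lib.Helper5.SuzMult.ChkR4_12
import Cfsg.Agent.Lib.Helper5.SuzMult.ChkR4_13
import Cfsg.Agent.Lib.Helper5.SuzMult.ChkR4_14
import Cfsg.Agent.Lib.Helper5.SuzMult.ChkR4_15
import Cfsg.Agent.Lib.Helper5.SuzMult.ChkR5_0_0
import Cfsg.Agent.Lib.Helper5.SuzMult.ChkR5_0_1
import Cfsg.Agent.Lib.Helper5.SuzMult.ChkR5_0_2
import Cfsg.Agent.Lib.Helper5.SuzMult.ChkR5_0_3
import Cfsg.Agent.Lib.Helper5.SuzMult.ChkR5_1_0
import Cfsg.Agent.Lib.Helper5.SuzMult.ChkR5_1_1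
import Cfsg.Agent.Lib.Helper5.SuzMult.ChkR5_1_2
import Cfsg.Agent.Lib.Helper5.SuzMult.ChkR5_1_3
import Cfsg.Agent.Lib.Helper5.SuzMult.ChkR5_1_4
import Cfsg.Agent.Lib.Helper5.SuzMult.ChkR5_2_0
import Cfsg.Agent.Lib.Helper5.SuzMult.ChkR5_2_1
import Cfsg.Agent.Lib.Helper5.SuzMult.ChkR5_2_2
import Cfsg.Agent.Lib.Helper5.SuzMult.ChkR5_2_3
import Cfsg.Agent.Lib.Helper5.SuzMult.ChkR5_2_4
import Cfsg.Agent.Lib.Helper5.SuzMult.ChkR5_3_0
import Cfsg.Agent.Lib.Helper5.SuzMult.ChkR5_3_1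
import Cfsg.Agent.Lib.Helper5.SuzMult.ChkR5_3_2
import Cfsg.Agent.Lib.Helper5.SuzMult.ChkR5_3_3
import Cfsg.Agent.Lib.Helper5.SuzMult.ChkR5_3_4
import Cfsg.Agent.Lib.Helper5.SuzMult.ChkR5_4_0
import Cfsg.Agent.Lib.Helper5.SuzMult.ChkR5_4_1
import Cfsg.Agent.Lib.Helper5.SuzMult.ChkR5_4_2
import Cfsg.Agent.Lib.Helper5.SuzMult.ChkR5_4_3
import Cfsg.Agent.Lib.Helper5.SuzMult.ChkR5_4_4
import Cfsg.Agent.Lib.Helper5.SuzMult.ChkR5_4_5
import Cfsg.Agent.Lib.Helper5.SuzMult.ChkR5_5_0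
import Cfsg.Agent.Lib.Helper5.SuzMult.ChkR5_5_1
import Cfsg.Agent.Lib.Helper5.SuzMult.ChkR5_5_2
import Cfsg.Agent.Lib.Helper5.SuzMult.ChkR5_5_3
import Cfsg.Agent.Lib.Helper5.SuzMult.ChkR5_5_4
import Cfsg.Agent.Lib.Helper5.SuzMult.ChkR5_5_5
import Cfsg.Agent.Lib.Helper5.SuzMult.ChkR5_6_0
import Cfsg.Agent.Lib.Helper5.SuzMult.ChkR5_6_1
import Cfsg.Agent.Lib.Helper5.SuzMult.ChkR5_6_2
import Cfsg.Agent.Lib.Helper5.SuzMult.ChkR5_6_3
import Cfsg.Agent.Lib.Helper5.SuzMult.ChkR5_6_4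
import Cfsg.Agent.Lib.Helper5.SuzMult.ChkR5_6_5
import Cfsg.Agent.Lib.Helper5.SuzMult.ChkR5_7_0
import Cfsg.Agent.Lib.Helper5.SuzMult.ChkR5_7_1
import Cfsg.Agent.Lib.Helper5.SuzMult.ChkR5_7_2
import Cfsg.Agent.Lib.Helper5.SuzMult.ChkR5_7_3
import Cfsg.Agent.Lib.Helper5.SuzMult.ChkR5_7_4
import Cfsg.Agent.Lib.Helper5.SuzMult.ChkR5_7_5
import Cfsg.Agent.Lib.Helper5.SuzMult.ChkR5_8_0
import Cfsg.Agent.Lib.Helper5.SuzMult.ChkR5_8_1
import Cfsg.Agent.Lib.Helper5.SuzMult.ChkR5_8_2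
import Cfsg.Agent.Lib.Helper5.SuzMult.ChkR5_8_3
import Cfsg.Agent.Lib.Helper5.SuzMult.ChkR5_8_4
import Cfsg.Agent.Lib.Helper5.SuzMult.ChkR5_8_5
import Cfsg.Agent.Lib.Helper5.SuzMult.ChkR5_9_0
import Cfsg.Agent.Lib.Helper5.SuzMult.ChkR5_9_1
import Cfsg.Agent.Lib.Helper5.SuzMult.ChkR5_9_2
import Cfsg.Agent.Lib.Helper5.SuzMult.ChkR5_9_3
import Cfsg.Agent.Lib.Helper5.SuzMult.ChkR5_9_4
import Cfsg.Agent.Lib.Helper5.SuzMult.ChkR5_9_5
import Cfsg.Agent.Lib.Helper5.SuzMult.ChkR5_10_0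
import Cfsg.Agent.Lib.Helper5.SuzMult.ChkR5_10_1
import Cfsg.Agent.Lib.Helper5.SuzMult.ChkR5_10_2
import Cfsg.Agent.Lib.Helper5.SuzMult.ChkR5_10_3
import Cfsg.Agent.Lib.Helper5.SuzMult.ChkR5_10_4
import Cfsg.Agent.Lib.Helper5.SuzMult.ChkR5_10_5
import Cfsg.Agent.Lib.Helper5.SuzMult.ChkR5_10_6
import Cfsg.Agent.Lib.Helper5.SuzMult.ChkR5_11_0
import Cfsg.Agent.Lib.Helper5.SuzMult.ChkR5_11_1
import Cfsg.Agent.Lib.Helper5.SuzMult.ChkR5_11_2
import Cfsg.Agent.Lib.Helper5.SuzMult.ChkR5_11_3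
import Cfsg.Agent.Lib.Helper5.SuzMult.ChkR5_11_4
import Cfsg.Agent.Lib.Helper5.SuzMult.ChkR5_11_5
import Cfsg.Agent.Lib.Helper5.SuzMult.ChkR5_11_6
import Cfsg.Agent.Lib.Helper5.SuzMult.ChkR5_12_0
import Cfsg.Agent.Lib.Helper5.SuzMult.ChkR5_12_1
import Cfsg.Agent.Lib.Helper5.SuzMult.ChkR5_12_2
import Cfsg.Agent.Lib.Helper5.SuzMult.ChkR5_12_3
import Cfsg.Agent.Lib.Helper5.SuzMult.ChkR5_12_4
import Cfsg.Agent.Lib.Helper5.SuzMult.ChkR5_12_5
import Cfsg.Agent.Lib.Helper5.SuzMult.ChkR5_12_6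
import Cfsg.Agent.Lib.Helper5.SuzMult.ChkR5_13_0
import Cfsg.Agent.Lib.Helper5.SuzMult.ChkR5_13_1
import Cfsg.Agent.Lib.Helper5.SuzMult.ChkR5_13_2
import Cfsg.Agent.Lib.Helper5.SuzMult.ChkR5_13_3
import Cfsg.Agent.Lib.Helper5.SuzMult.ChkR5_13_4
import Cfsg.Agent.Lib.Helper5.SuzMult.ChkR5_13_5
import Cfsg.Agent.Lib.Helper5.SuzMult.ChkR5_13_6
import Cfsg.Agent.Lib.Helper5.SuzMult.ChkR5_13_7
import Cfsg.Agent.Lib.Helper5.SuzMult.ChkR5_14_0
import Cfsg.Agent.Lib.Helper5.SuzMult.ChkR5_14_1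
import Cfsg.Agent.Lib.Helper5.SuzMult.ChkR5_14_2
import Cfsg.Agent.Lib.Helper5.SuzMult.ChkR5_14_3
import Cfsg.Agent.Lib.Helper5.SuzMult.ChkR5_14_4

/-! The coincidences of the coset certificates for the stem extensions of `Suz`: the pieces checked by the kernel, put
together -/

set_option autoImplicit false

namespace Cfsg.Agent.Lib.Helper5.SuzMult

theorem chk_rel0 : rel0.all relS = true :=
  chk_rel0_g0

theorem chk_rel1 : rel1.all relS = true :=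
  chk_rel1_g0

theorem chk_rel2 : rel2.all relS = true :=
  chk_rel2_g0

theorem chk_rel3 : rel3.all relS = true :=
  all_split relS 28 _ chk_rel3_g0
    (all_split relS 22 _ chk_rel3_g1
    (all_split relS 19 _ chk_rel3_g2
    (all_split relS 17 _ chk_rel3_g3
    (chk_rel3_g4))))

theorem chk_rel4 : rel4.all relS = true :=
  all_split relS 31 _ chk_rel4_g0
    (all_split relS 23 _ chk_rel4_g1
    (all_split relS 24 _ chk_rel4_g2
    (all_split relS 20 _ chk_rel4_g3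
    (all_split relS 20 _ chk_rel4_g4
    (all_split relS 18 _ chk_rel4_g5
    (all_split relS 17 _ chk_rel4_g6
    (all_split relS 17 _ chk_rel4_g7
    (all_split relS 16 _ chk_rel4_g8
    (all_split relS 17 _ chk_rel4_g9
    (all_split relS 15 _ chk_rel4_g10
    (all_split relS 15 _ chk_rel4_g11
    (all_split relS 14 _ chk_rel4_g12
    (all_split relS 13 _ chk_rel4_g13
    (all_split relS 13 _ chk_rel4_g14
    (chk_rel4_g15)))))))))))))))

theorem chk_rel5_0 : rel5_0.all relS = true :=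
  all_split relS 31 _ chk_rel5_0_g0
    (all_split relS 25 _ chk_rel5_0_g1
    (all_split relS 22 _ chk_rel5_0_g2
    (chk_rel5_0_g3)))

theorem chk_rel5_1 : rel5_1.all relS = true :=
  all_split relS 24 _ chk_rel5_1_g0
    (all_split relS 23 _ chk_rel5_1_g1
    (all_split relS 21 _ chk_rel5_1_g2
    (all_split relS 21 _ chk_rel5_1_g3
    (chk_rel5_1_g4))))

theorem chk_rel5_2 : rel5_2.all relS = true :=
  all_split relS 22 _ chk_rel5_2_g0
    (all_split relS 22 _ chk_rel5_2_g1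
    (all_split relS 22 _ chk_rel5_2_g2
    (all_split relS 21 _ chk_rel5_2_g3
    (chk_rel5_2_g4))))

theorem chk_rel5_3 : rel5_3.all relS = true :=
  all_split relS 19 _ chk_rel5_3_g0
    (all_split relS 22 _ chk_rel5_3_g1
    (all_split relS 23 _ chk_rel5_3_g2
    (all_split relS 20 _ chk_rel5_3_g3
    (chk_rel5_3_g4))))

theorem chk_rel5_4 : rel5_4.all relS = true :=
  all_split relS 22 _ chk_rel5_4_g0
    (all_split relS 19 _ chk_rel5_4_g1
    (all_split relS 17 _ chk_rel5_4_g2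
    (all_split relS 16 _ chk_rel5_4_g3
    (all_split relS 19 _ chk_rel5_4_g4
    (chk_rel5_4_g5)))))

theorem chk_rel5_5 : rel5_5.all relS = true :=
  all_split relS 18 _ chk_rel5_5_g0
    (all_split relS 17 _ chk_rel5_5_g1
    (all_split relS 18 _ chk_rel5_5_g2
    (all_split relS 17 _ chk_rel5_5_g3
    (all_split relS 17 _ chk_rel5_5_g4
    (chk_rel5_5_g5)))))

theorem chk_rel5_6 : rel5_6.all relS = true :=
  all_split relS 17 _ chk_rel5_6_g0
    (all_split relS 16 _ chk_rel5_6_g1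
    (all_split relS 17 _ chk_rel5_6_g2
    (all_split relS 16 _ chk_rel5_6_g3
    (all_split relS 16 _ chk_rel5_6_g4
    (chk_rel5_6_g5)))))

theorem chk_rel5_7 : rel5_7.all relS = true :=
  all_split relS 17 _ chk_rel5_7_g0
    (all_split relS 16 _ chk_rel5_7_g1
    (all_split relS 17 _ chk_rel5_7_g2
    (all_split relS 18 _ chk_rel5_7_g3
    (all_split relS 16 _ chk_rel5_7_g4
    (chk_rel5_7_g5)))))

theorem chk_rel5_8 : rel5_8.all relS = true :=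
  all_split relS 19 _ chk_rel5_8_g0
    (all_split relS 16 _ chk_rel5_8_g1
    (all_split relS 15 _ chk_rel5_8_g2
    (all_split relS 19 _ chk_rel5_8_g3
    (all_split relS 16 _ chk_rel5_8_g4
    (chk_rel5_8_g5)))))

theorem chk_rel5_9 : rel5_9.all relS = true :=
  all_split relS 15 _ chk_rel5_9_g0
    (all_split relS 17 _ chk_rel5_9_g1
    (all_split relS 16 _ chk_rel5_9_g2
    (all_split relS 17 _ chk_rel5_9_g3
    (all_split relS 20 _ chk_rel5_9_g4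
    (chk_rel5_9_g5)))))

theorem chk_rel5_10 : rel5_10.all relS = true :=
  all_split relS 15 _ chk_rel5_10_g0
    (all_split relS 17 _ chk_rel5_10_g1
    (all_split relS 16 _ chk_rel5_10_g2
    (all_split relS 15 _ chk_rel5_10_g3
    (all_split relS 14 _ chk_rel5_10_g4
    (all_split relS 14 _ chk_rel5_10_g5
    (chk_rel5_10_g6))))))

theorem chk_rel5_11 : rel5_11.all relS = true :=
  all_split relS 15 _ chk_rel5_11_g0
    (all_split relS 15 _ chk_rel5_11_g1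
    (all_split relS 14 _ chk_rel5_11_g2
    (all_split relS 14 _ chk_rel5_11_g3
    (all_split relS 14 _ chk_rel5_11_g4
    (all_split relS 14 _ chk_rel5_11_g5
    (chk_rel5_11_g6))))))

theorem chk_rel5_12 : rel5_12.all relS = true :=
  all_split relS 14 _ chk_rel5_12_g0
    (all_split relS 14 _ chk_rel5_12_g1
    (all_split relS 14 _ chk_rel5_12_g2
    (all_split relS 15 _ chk_rel5_12_g3
    (all_split relS 14 _ chk_rel5_12_g4
    (all_split relS 13 _ chk_rel5_12_g5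
    (chk_rel5_12_g6))))))

theorem chk_rel5_13 : rel5_13.all relS = true :=
  all_split relS 13 _ chk_rel5_13_g0
    (all_split relS 14 _ chk_rel5_13_g1
    (all_split relS 14 _ chk_rel5_13_g2
    (all_split relS 13 _ chk_rel5_13_g3
    (all_split relS 13 _ chk_rel5_13_g4
    (all_split relS 12 _ chk_rel5_13_g5
    (all_split relS 13 _ chk_rel5_13_g6
    (chk_rel5_13_g7)))))))

theorem chk_rel5_14 : rel5_14.all relS = true :=
  all_split relS 12 _ chk_rel5_14_g0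
    (all_split relS 13 _ chk_rel5_14_g1
    (all_split relS 12 _ chk_rel5_14_g2
    (all_split relS 12 _ chk_rel5_14_g3
    (chk_rel5_14_g4))))

theorem chk_rel5 : rel5.all relS = true := by
  unfold rel5
  rw [List.all_append, List.all_append, List.all_append, List.all_append, List.all_append, List.all_append, List.all_append, List.all_append, List.all_append, List.all_append, List.all_append, List.all_append, List.all_append, List.all_append, chk_rel5_0, chk_rel5_1, chk_rel5_2, chk_rel5_3, chk_rel5_4, chk_rel5_5, chk_rel5_6, chk_rel5_7, chk_rel5_8, chk_rel5_9, chk_rel5_10, chk_rel5_11, chk_rel5_12, chk_rel5_13, chk_rel5_14]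
  rfl

end Cfsg.Agent.Lib.Helper5.SuzMult
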