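import Cfsg.Agent.Lib.Helper5.SuzMult.P
import Cfsg.Agent.Lib.Helper5.SuzMult.R
import Cfsg.Agent.Lib.Helper5.SuzMult.Chk1
import Cfsg.Agent.Lib.Helper5.SuzMult.ChkT4_0
import Cfsg.Agent.Lib.Helper5.SuzMult.ChkT5_0
import Cfsg.Agent.Lib.Helper5.SuzMult.ChkT5_1
import Cfsg.Agent.Lib.Helper5.SuzMult.ChkT5_2
import Cfsg.Agent.Lib.Helper5.SuzMult.ChkT5_3
import Cfsg.Agent.Lib.Helper5.SuzMult.ChkT5_4
import Cfsg.Agent.Lib.Helper5.SuzMult.ChkT5_5

/-!
# A finite stem extension of `Suz` has at most `6 |Suz|` elements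

`Suz` is the group `PS` of permutations of 1782 points and `tS` the involution `a`; `C0S` is a perfect subgroup of its
centraliser.  Nine conjugates of `tS` generate `PS`; in a stem extension their canonical lifts `γ 0, …, γ 8` (indexed by
cosets of `C0S`) generate the extension and satisfy every relation "two palindromes have the same point" (checked on
the codes of the permutations, with an element of `C0S` as a witness) and one relation "the product of two commuting
conjugates is a conjugate".  Six coset certificates bound the orders of the groups generated by the first `4, …, 9`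
lifts by `24`, `7 · 24`, …, `5346 · 416 · 200 · 36 · 7 · 24 = 6 |Suz|`.
-/

set_option autoImplicit false

namespace Cfsg.Agent.Lib.Helper5.SuzMult

open Cfsg.Agent.PL Cfsg.Agent.Lib.Helper8.CanonLift
open Cfsg.Agent.CoxOut.Suz (cgs)
open Cfsg.Agent.Lib.Helper5.J3Mult (FCert palW Cz seg seg_zero card_seg_le)

/-- **the nine involutions generate `PS`** -/
theorem closure_tGS : Subgroup.closure (tGS '' Set.Iio 9) = ⊤ :=
  closure_tG_top n_le czS good_czS good_gcodes chk_scodes 9 regsPS eq_top_of_gens slpGen idxGen chk_slpGen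

/-- the cosets that belong to the members of the family -/
noncomputable def xS (i : ℕ) : ↥PS ⧸ C0S := xG C0S gcodesL i

/-- the point of a palindrome -/
noncomputable def ptS (p : List ℕ × ℕ) : ↥PS ⧸ C0S := palP0 tS C0S hC0S xS p.1 p.2

theorem ptS_code (p : List ℕ × ℕ) :
    ptS p = ((el PS (palG 1782 czS scodesL gcodesL p) : ↥PS) : ↥PS ⧸ C0S) :=
  palP0_code n_le good_czS good_gcodes chk_scodes C0S hC0S p

theorem good_palS (p : List ℕ × ℕ) : Good PS (palG 1782 czS scodesL gcodesL p) :=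
  (palG_spec n_le good_czS good_gcodes chk_scodes p).1

/-- the involution of the point of a palindrome, on the codes -/
theorem Tq0_ptS (p : List ℕ × ℕ) :
    Tq0 tS C0S hC0S (ptS p) = el PS (conjC 1782 (palG 1782 czS scodesL gcodesL p) czS) := by
  rw [ptS_code, Tq0_mk]
  unfold conjC
  rw [el_pmul n_le ((good_palS p).mul n_le good_czS) ((good_palS p).inv n_le), el_pmul n_le (good_palS p) good_czS,
    el_pinv n_le (good_palS p)]
  rfl

theorem trip_mul : Tq0 tS C0S hC0S (ptS tripA) * Tq0 tS C0S hC0S (ptS tripC) = Tq0 tS C0S hC0S (ptS tripU) := by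
  rw [Tq0_ptS, Tq0_ptS, Tq0_ptS, ← el_pmul n_le (good_conjC (good_palS _)) (good_conjC (good_palS _)),
    Nat.eq_of_beq_eq_true chk_tripA.1]

theorem trip_fix : Tq0 tS C0S hC0S (ptS tripC) • ptS tripA = ptS tripA := by
  rw [Tq0_ptS, ptS_code tripA, MulAction.Quotient.smul_mk, smul_eq_mul]
  obtain ⟨hw, hwm⟩ := wordG_mem n_le C0S trv_mem tripWit
  apply mk_eq_of_mul hwm
  rw [← el_pmul n_le (good_conjC (good_palS _)) (good_palS _), Nat.eq_of_beq_eq_true chk_tripA.2,
    el_pmul n_le (good_palS _) hw]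

/-! ### the words of the certificates are trivial on the lifts -/

section lifts

variable {E : Type*} [Group E] {σ : E →* ↥PS} (Λ : Lifts σ (Tq0 tS C0S hC0S))

/-- the lifts of the nine involutions -/
noncomputable def γL (i : ℕ) : E := Λ.L (xS i)

theorem γL_sq (i : ℕ) : γL Λ i * γL Λ i = 1 := Λ.sq _

theorem word_of_relS {c : (List ℕ × ℕ × List ℕ × ℕ) × List ℕ} (h : relS c = true) :
    ((longW c.1).map (γL Λ)).prod = 1 := by
  unfold longW
  exact prod_coincide0 Λ xS (point_eq_of_relOKw n_le good_czS good_gcodes chk_scodes C0S hC0S trv_mem h)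

theorem word_getD {l : List ((List ℕ × ℕ × List ℕ × ℕ) × List ℕ)} (hl : l.all relS = true) (k : ℕ) :
    ((longW (l.getD k c0w).1).map (γL Λ)).prod = 1 := by
  apply word_of_relS
  by_cases hk : k < l.length
  · rw [List.getD_eq_getElem _ _ hk]
    exact List.all_eq_true.1 hl _ (List.getElem_mem hk)
  · rw [List.getD_eq_default _ _ (by omega)]
    exact chk_c0w

theorem tripW_eq_one (hacu : Λ.L (ptS tripA) * Λ.L (ptS tripC) = Λ.L (ptS tripU)) :
    (tripW.map (γL Λ)).prod = 1 :=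
  prod_triple0 Λ xS hacu

theorem hW_of {l : List ((List ℕ × ℕ × List ℕ × ℕ) × List ℕ)} (hl : l.all relS = true)
    (hacu : Λ.L (ptS tripA) * Λ.L (ptS tripC) = Λ.L (ptS tripU)) :
    ∀ k, ((WS l k).map (γL Λ)).prod = 1
  | 0 => tripW_eq_one Λ hacu
  | (k + 1) => word_getD Λ hl k

end lifts

theorem hL_of {g : ℕ} (hg : 4 ≤ g) {l : List ((List ℕ × ℕ × List ℕ × ℕ) × List ℕ)}
    (hl : l.all (fun c => letOK g c.1) = true) : ∀ k, ∀ x ∈ WS l k, x < g
  | 0 => by
    intro x hx
    have := List.all_eq_true.1 chk_letA.2.2.2.2.2.2 x hx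
    rw [Nat.blt_eq] at this
    omega
  | (k + 1) => lt_getD (by omega) hl k

/-! ### the bound -/

theorem hallA0 : ∀ a, a < certA0.n → ∀ x, x < certA0.g → certA0.slotOK a x = true := by
  intro a ha x hx
  have ha' : a < 24 := ha
  exact certA0.slot_of_rows chk_cA0 (Nat.zero_le _) (by omega) hx

theorem hallA1 : ∀ a, a < certA1.n → ∀ x, x < certA1.g → certA1.slotOK a x = true := by
  intro a ha x hx
  have ha' : a < 7 := ha
  exact certA1.slot_of_rows chk_cA1 (Nat.zero_le _) (by omega) hx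

theorem hallA2 : ∀ a, a < certA2.n → ∀ x, x < certA2.g → certA2.slotOK a x = true := by
  intro a ha x hx
  have ha' : a < 36 := ha
  exact certA2.slot_of_rows chk_cA2 (Nat.zero_le _) (by omega) hx

theorem hallA3 : ∀ a, a < certA3.n → ∀ x, x < certA3.g → certA3.slotOK a x = true := by
  intro a ha x hx
  have ha' : a < 200 := ha
  exact certA3.slot_of_rows chk_cA3 (Nat.zero_le _) (by omega) hx

theorem hallA4 : ∀ a, a < certA4.n → ∀ x, x < certA4.g → certA4.slotOK a x = true := by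
  intro a ha x hx
  have ha' : a < 416 := ha
  exact certA4.slot_of_rows chk_certA4_0 (Nat.zero_le _) (by omega) hx

theorem hallA5 : ∀ a, a < certA5.n → ∀ x, x < certA5.g → certA5.slotOK a x = true := by
  intro a ha x hx
  have ha' : a < 5346 := ha
  rcases Nat.lt_or_ge a 891 with h0 | h0
  · exact certA5.slot_of_rows chk_certA5_0 (Nat.zero_le _) (by omega) hx
  rcases Nat.lt_or_ge a 1782 with h1 | h1
  · exact certA5.slot_of_rows chk_certA5_1 h0 (by omega) hx
  rcases Nat.lt_or_ge a 2673 with h2 | h2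
  · exact certA5.slot_of_rows chk_certA5_2 h1 (by omega) hx
  rcases Nat.lt_or_ge a 3564 with h3 | h3
  · exact certA5.slot_of_rows chk_certA5_3 h2 (by omega) hx
  rcases Nat.lt_or_ge a 4455 with h4 | h4
  · exact certA5.slot_of_rows chk_certA5_4 h3 (by omega) hx
  exact certA5.slot_of_rows chk_certA5_5 h4 (by omega) hx

/-- **a finite stem extension of `PS` has at most `6 |PS|` elements** -/
theorem card_stem_le {E : Type*} [Group E] [Finite E] (σ : E →* ↥PS)
    (hsurj : Function.Surjective σ) (hcen : σ.ker ≤ Subgroup.center E) (hder : σ.ker ≤ commutator E) :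
    Nat.card E ≤ 2690072985600 := by
  obtain ⟨Λ, hacu⟩ := exists_lifts_sub tS C0S hC0S hsurj hcen tS_sq perfect_C0S (ptS tripA) (ptS tripC) (ptS tripU)
    trip_mul trip_fix
  set γ := γL Λ with hγ
  have hinv : ∀ x, γ x * γ x = 1 := γL_sq Λ
  -- the lifts generate
  have htop : seg γ 9 = ⊤ := by
    have := Λ.closure_eq_top hcen hder (xS '' Set.Iio 9) ⟨xS 0, 0, by norm_num, rfl⟩ (by
      rw [Set.image_image]
      exact closure_tGS)
    rw [Set.image_image] at this
    exact this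
  -- the six certificates
  have hW0 : ∀ k, ((certA0.W k).map γ).prod = 1 := hW_of Λ chk_rel0 hacu
  have hW1 : ∀ k, ((certA1.W k).map γ).prod = 1 := hW_of Λ chk_rel1 hacu
  have hW2 : ∀ k, ((certA2.W k).map γ).prod = 1 := hW_of Λ chk_rel2 hacu
  have hW3 : ∀ k, ((certA3.W k).map γ).prod = 1 := hW_of Λ chk_rel3 hacu
  have hW4 : ∀ k, ((certA4.W k).map γ).prod = 1 := hW_of Λ chk_rel4 hacu
  have hW5 : ∀ k, ((certA5.W k).map γ).prod = 1 := hW_of Λ chk_rel5 hacu
  have hL0 : ∀ k, ∀ x ∈ certA0.W k, x < certA0.g := hL_of (g := 4) (by norm_num) chk_letA.1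
  have hL1 : ∀ k, ∀ x ∈ certA1.W k, x < certA1.g := hL_of (g := 5) (by norm_num) chk_letA.2.1
  have hL2 : ∀ k, ∀ x ∈ certA2.W k, x < certA2.g := hL_of (g := 6) (by norm_num) chk_letA.2.2.1
  have hL3 : ∀ k, ∀ x ∈ certA3.W k, x < certA3.g := hL_of (g := 7) (by norm_num) chk_letA.2.2.2.1
  have hL4 : ∀ k, ∀ x ∈ certA4.W k, x < certA4.g := hL_of (g := 8) (by norm_num) chk_letA.2.2.2.2.1
  have hL5 : ∀ k, ∀ x ∈ certA5.W k, x < certA5.g := hL_of (g := 9) (by norm_num) chk_letA.2.2.2.2.2.1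
  have hfin0 : Finite ↥(seg γ certA0.nsub) := by
    show Finite ↥(seg γ 0)
    rw [seg_zero]
    infer_instance
  obtain ⟨hfin1, hc1⟩ := card_seg_le γ certA0 hinv hW0 hL0 (Nat.zero_le _) (show 0 < 24 by norm_num) hallA0 hfin0
  have hc1' : Nat.card ↥(seg γ 4) ≤ 24 := by
    have h0 : Nat.card ↥(seg γ certA0.nsub) = 1 := by
      show Nat.card ↥(seg γ 0) = 1
      rw [seg_zero]
      exact Subgroup.card_bot
    rw [h0] at hc1
    exact hc1
  obtain ⟨hfin2, hc2⟩ := card_seg_le γ certA1 hinv hW1 hL1 (show 4 ≤ 5 by norm_num) (show 0 < 7 by norm_num) hallA1 hfin1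
  have hc2' : Nat.card ↥(seg γ 5) ≤ 7 * 24 := le_trans hc2 (Nat.mul_le_mul_left _ hc1')
  obtain ⟨hfin3, hc3⟩ := card_seg_le γ certA2 hinv hW2 hL2 (show 5 ≤ 6 by norm_num) (show 0 < 36 by norm_num) hallA2 hfin2
  have hc3' : Nat.card ↥(seg γ 6) ≤ 36 * (7 * 24) := le_trans hc3 (Nat.mul_le_mul_left _ hc2')
  obtain ⟨hfin4, hc4⟩ := card_seg_le γ certA3 hinv hW3 hL3 (show 6 ≤ 7 by norm_num) (show 0 < 200 by norm_num) hallA3 hfin3
  have hc4' : Nat.card ↥(seg γ 7) ≤ 200 * (36 * (7 * 24)) := le_trans hc4 (Nat.mul_le_mul_left _ hc3')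
  obtain ⟨hfin5, hc5⟩ := card_seg_le γ certA4 hinv hW4 hL4 (show 7 ≤ 8 by norm_num) (show 0 < 416 by norm_num) hallA4 hfin4
  have hc5' : Nat.card ↥(seg γ 8) ≤ 416 * (200 * (36 * (7 * 24))) := le_trans hc5 (Nat.mul_le_mul_left _ hc4')
  obtain ⟨_, hc6⟩ := card_seg_le γ certA5 hinv hW5 hL5 (show 8 ≤ 9 by norm_num) (show 0 < 5346 by norm_num) hallA5 hfin5
  have hc6' : Nat.card ↥(seg γ 9) ≤ 5346 * (416 * (200 * (36 * (7 * 24)))) := le_trans hc6 (Nat.mul_le_mul_left _ hc5')
  rw [htop, Subgroup.card_top] at hc6'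
  exact hc6'

end Cfsg.Agent.Lib.Helper5.SuzMult
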