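import Cfsg.Agent.Lib.Helper5.SuzMult.Base

/-!
# A family of conjugates of an involution, given by codes, and the points of its palindromes

The involution `tz` has the code `cz`, the elements `gG i` have the codes `gcodes`, and `codes` are the codes of the
conjugates `tG i = gG i * tz * (gG i)⁻¹`.  For a subgroup `C0` of the centraliser of `tz` the point of a palindrome in
the cosets of `C0` is the coset of the element with the code `palG`; a coincidence with a witness (`relOKw`) gives the
equality of two points.
-/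

set_option autoImplicit false
set_option maxRecDepth 100000

namespace Cfsg.Agent.Lib.Helper5.SuzMult

open Cfsg.Agent.PL
open Cfsg.Agent.Lib.Helper5.J3Mult (Cz palW)

section family

variable {n : ℕ} (hn : n ≤ 4096) (H : Subgroup (Equiv.Perm (Fin n))) (cz : ℕ) (codes gcodes : List ℕ)

/-- the base involution -/
noncomputable def tz : ↥H := el H cz

/-- the conjugating elements -/
noncomputable def gG (i : ℕ) : ↥H := el H (gcodes.getD i (pone n))

/-- the members of the family -/
noncomputable def tG (i : ℕ) : ↥H := gG H gcodes i * tz H cz * (gG H gcodes i)⁻¹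

variable {H cz codes gcodes}
variable (hcz : Good H cz) (hsq : pmul n cz cz = pone n) (hg : ∀ c ∈ gcodes, Good H c)
  (hconj : codes = gcodes.map fun g => conjC n g cz)

include hn hcz hsq in
theorem tz_sq : tz H cz * tz H cz = 1 := by
  unfold tz
  rw [← el_pmul hn hcz hcz, hsq, el_pone hn]

include hn hcz hg hconj in
/-- the codes of the members of the family -/
theorem code_tG (i : ℕ) : Good H (codes.getD i cz) ∧ el H (codes.getD i cz) = tG H cz gcodes i := by
  have hlen : codes.length = gcodes.length := by rw [hconj, List.length_map]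
  by_cases hi : i < codes.length
  · have hi' : i < gcodes.length := by omega
    have hgi : Good H gcodes[i] := hg _ (List.getElem_mem hi')
    have e : codes.getD i cz = conjC n gcodes[i] cz := by
      rw [List.getD_eq_getElem _ _ hi]
      simp only [hconj, List.getElem_map]
    rw [e]
    unfold conjC tG gG
    rw [List.getD_eq_getElem _ _ hi']
    exact ⟨((hgi.mul hn hcz).mul hn (hgi.inv hn)), by
      rw [el_pmul hn (hgi.mul hn hcz) (hgi.inv hn), el_pmul hn hgi hcz, el_pinv hn hgi]; rfl⟩
  · have hi' : ¬ i < gcodes.length := by omega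
    rw [List.getD_eq_default _ _ (by omega)]
    unfold tG gG
    rw [List.getD_eq_default _ _ (by omega), el_pone hn]
    exact ⟨hcz, by rw [one_mul, inv_one, mul_one]; rfl⟩

include hn hcz hsq in
theorem tG_sq (i : ℕ) : tG H cz gcodes i * tG H cz gcodes i = 1 := by
  unfold tG
  calc gG H gcodes i * tz H cz * (gG H gcodes i)⁻¹ * (gG H gcodes i * tz H cz * (gG H gcodes i)⁻¹)
      = gG H gcodes i * (tz H cz * tz H cz) * (gG H gcodes i)⁻¹ := by group
    _ = 1 := by rw [tz_sq hn hcz hsq]; group

include hn hcz hg hconj in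
/-- the product of members of the family and of an element, on the codes -/
theorem palGa_spec : ∀ (h : List ℕ) (v : ℕ), Good H v →
    Good H (palGa n cz codes h v) ∧
      el H (palGa n cz codes h v) = (h.reverse.map (tG H cz gcodes)).prod * el H v
  | [], v, hv => ⟨hv, by rw [palGa_nil, List.reverse_nil, List.map_nil, List.prod_nil, one_mul]⟩
  | s :: h, v, hv => by
    obtain ⟨hs, es⟩ := code_tG hn hcz hg hconj s
    obtain ⟨h1, h2⟩ := palGa_spec h _ (hs.mul hn hv)
    rw [palGa_cons]
    refine ⟨h1, ?_⟩
    rw [h2, el_pmul hn hs hv, es, List.reverse_cons, List.map_append, List.prod_append, List.map_cons,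
      List.map_nil, List.prod_cons, List.prod_nil, mul_one, mul_assoc]

include hn hcz hg hconj in
theorem palG_spec (p : List ℕ × ℕ) : Good H (palG n cz codes gcodes p) ∧
    el H (palG n cz codes gcodes p) = (p.1.reverse.map (tG H cz gcodes)).prod * gG H gcodes p.2 :=
  palGa_spec hn hcz hg hconj p.1 _ (good_getD hg p.2)

/-! ### the cosets of a subgroup of the centraliser -/

variable (C0 : Subgroup ↥H) (hC0 : C0 ≤ Cz (tz H cz))

/-- the cosets that belong to the members of the family -/
noncomputable def xG (gcodes : List ℕ) (i : ℕ) : ↥H ⧸ C0 := ((gG H gcodes i : ↥H) : ↥H ⧸ C0)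

theorem Tq0_xG (i : ℕ) : Tq0 (tz H cz) C0 hC0 (xG C0 gcodes i) = tG H cz gcodes i := rfl

include hn hcz hg hconj in
/-- the point of a palindrome is the coset of the element with the code `palG` -/
theorem palP0_code (p : List ℕ × ℕ) :
    palP0 (tz H cz) C0 hC0 (xG C0 gcodes) p.1 p.2 = ((el H (palG n cz codes gcodes p) : ↥H) : ↥H ⧸ C0) := by
  rw [palP0_eq_mk (xG C0 gcodes) (gG H gcodes) (fun i => rfl), (palG_spec hn hcz hg hconj p).2]
  rfl

variable {trv : List ℕ} (htrv : ∀ c ∈ trv, Good H c ∧ el H c ∈ C0)

include hn htrv in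
theorem wordG_mem (ys : List ℕ) : Good H (wordG n trv ys) ∧ el H (wordG n trv ys) ∈ C0 := by
  obtain ⟨h1, h2⟩ := wordG_spec hn (fun c hc => (htrv c hc).1) ys
  refine ⟨h1, ?_⟩
  rw [h2]
  apply Subgroup.list_prod_mem
  intro y hy
  rw [List.mem_map] at hy
  obtain ⟨i, -, rfl⟩ := hy
  by_cases hi : i < trv.length
  · rw [List.getD_eq_getElem _ _ hi]
    exact (htrv _ (List.getElem_mem hi)).2
  · rw [List.getD_eq_default _ _ (by omega), el_pone hn]
    exact C0.one_mem

include hn hcz hg hconj htrv in
/-- **a coincidence with a witness gives the equality of two points** -/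
theorem point_eq_of_relOKw {c : (List ℕ × ℕ × List ℕ × ℕ) × List ℕ}
    (h : relOKw n cz codes gcodes trv c = true) :
    palP0 (tz H cz) C0 hC0 (xG C0 gcodes) c.1.1 c.1.2.1 =
      palP0 (tz H cz) C0 hC0 (xG C0 gcodes) c.1.2.2.1 c.1.2.2.2 := by
  have e1 := palP0_code hn hcz hg hconj C0 hC0 (c.1.1, c.1.2.1)
  have e2 := palP0_code hn hcz hg hconj C0 hC0 (c.1.2.2.1, c.1.2.2.2)
  rw [e1, e2]
  obtain ⟨hw, hwm⟩ := wordG_mem hn C0 htrv c.2
  apply mk_eq_of_mul hwm
  unfold relOKw at h
  rw [Nat.eq_of_beq_eq_true h, el_pmul hn (palG_spec hn hcz hg hconj _).1 hw]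

end family

end Cfsg.Agent.Lib.Helper5.SuzMult
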