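import Cfsg.Agent.Lib.Helper5.SuzMult.Chk0
import Cfsg.Agent.Lib.Helper5.SuzMult.ChkTrv
import Cfsg.Agent.Lib.Lead.CoxOut.SuzOut

/-!
# The Suzuki group on 1782 points: the family of conjugates of `a` and a perfect subgroup of the centraliser of `a`

`PS` is lead's group of permutations of the 1782 rows of the coset table of the presented group `Suz`.  The base
involution is the generator `a`; nine conjugates of it form the family of the bound for the stem extensions.  Five
conjugates of `a` that commute with `a` generate a subgroup `C0S` of the centraliser, which is perfect: they are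
involutions, pairs of them have products of order three, and a word of odd length in them is trivial.  The codes `trvL`
belong to elements of `C0S`.
-/

set_option autoImplicit false
set_option maxRecDepth 100000

namespace Cfsg.Agent.Lib.Helper5.SuzMult

open Cfsg Cfsg.Spor Cfsg.Agent.PL Cfsg.Agent.PL.Cox Cfsg.Agent.Lib.Helper6 Cfsg.Agent.Lib.Helper6.TC
open Cfsg.Agent.CoxOut.Suz (gl cgs ρ_inj)
open Cfsg.Agent.Lib.Helper5.J3Mult (Cz)

/-- the Suzuki group on 1782 points -/
noncomputable def PS : Subgroup (Equiv.Perm (Fin 1782)) := Cfsg.Agent.CoxOut.Suz.P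

theorem n_le : (1782 : ℕ) ≤ 4096 := by norm_num

theorem card_PS : Nat.card ↥PS = 448345497600 := Cfsg.Agent.CoxOut.Suz.card_P

/-- the isomorphism with the presented group -/
noncomputable def isoPS : Suz ≃* ↥PS := Cox.iso SuzTC.data ρ_inj

/-- the generators -/
noncomputable def genPS (x : ℕ) : ↥PS := genP SuzTC.data x

/-- the list of the generators -/
noncomputable def gensPS : List ↥PS := gl.map genPS

theorem regsPS : RegsOK PS gensPS cgs := Cfsg.Agent.CoxOut.Suz.regs_ok

theorem isoPS_of (x : ℕ) : isoPS (PresentedGroup.of (SuzTC.data.gen x)) = genPS x := rfl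

/-- a subgroup that contains the generators is everything -/
theorem eq_top_of_gens (K : Subgroup ↥PS) (h : ∀ g ∈ gensPS, g ∈ K) : K = ⊤ := by
  have h1 : K.comap isoPS.toMonoidHom = ⊤ := by
    rw [eq_top_iff, ← PresentedGroup.closure_range_of, Subgroup.closure_le]
    rintro _ ⟨y, rfl⟩
    obtain ⟨hlt, hgen⟩ := SuzTC.data.hcode y
    have hlt' : SuzTC.data.code y < 7 := hlt
    rw [SetLike.mem_coe, Subgroup.mem_comap, ← hgen]
    show isoPS (PresentedGroup.of (SuzTC.data.gen (SuzTC.data.code y))) ∈ K
    rw [isoPS_of]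
    apply h
    have hmem : SuzTC.data.code y ∈ gl := by
      unfold gl
      generalize SuzTC.data.code y = x at hlt'
      interval_cases x <;> simp
    exact List.mem_map.2 ⟨SuzTC.data.code y, hmem, rfl⟩
  rw [eq_top_iff]
  intro y _
  have : isoPS.symm y ∈ K.comap isoPS.toMonoidHom := by rw [h1]; exact Subgroup.mem_top _
  rw [Subgroup.mem_comap] at this
  simpa using this

/-! ### the family -/

theorem good_cgs : ∀ c ∈ cgs, Good PS c := good_of_regs regsPS

theorem good_czS : Good PS czS := good_cgs _ (by unfold czS cgs; exact List.mem_cons_self)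

theorem hsqS : pmul 1782 czS czS = pone 1782 := Nat.eq_of_beq_eq_true chk_cz

theorem good_gcodes : ∀ c ∈ gcodesL, Good PS c := by
  rw [← chk_gcodes]
  intro c hc
  rw [List.mem_map] at hc
  obtain ⟨w, -, rfl⟩ := hc
  exact (wordG_spec n_le good_cgs w).1

/-- the base involution -/
noncomputable def tS : ↥PS := tz PS czS

theorem tS_sq : tS * tS = 1 := tz_sq n_le good_czS hsqS

/-- the members of the family -/
noncomputable def tGS (i : ℕ) : ↥PS := tG PS czS gcodesL i

/-! ### the subgroup of the centraliser -/

theorem good_conjC {g : ℕ} (h : Good PS g) : Good PS (conjC 1782 g czS) :=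
  (h.mul n_le good_czS).mul n_le (h.inv n_le)

theorem good_kcodes : ∀ c ∈ kcodesL, Good PS c := by
  rw [← chk_kcodes]
  intro c hc
  rw [List.mem_map] at hc
  obtain ⟨p, -, rfl⟩ := hc
  exact good_conjC (palG_spec n_le good_czS good_gcodes chk_scodes p).1

/-- the generators of the subgroup of the centraliser -/
noncomputable def kG (i : ℕ) : ↥PS := el PS (kcodesL.getD i (pone 1782))

theorem good_kget (i : ℕ) : Good PS (kcodesL.getD i (pone 1782)) := good_getD good_kcodes i

theorem kcodes_length : kcodesL.length = 5 := by decide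

theorem kget_mem {i : ℕ} (hi : i < 5) : kcodesL.getD i (pone 1782) ∈ kcodesL := by
  rw [List.getD_eq_getElem _ _ (by rw [kcodes_length]; exact hi)]
  exact List.getElem_mem _

theorem kG_props {i : ℕ} (hi : i < 5) : kG i * tS = tS * kG i ∧ kG i * kG i = 1 := by
  have h := List.all_eq_true.1 chk_kcomm _ (kget_mem hi)
  rw [Bool.and_eq_true] at h
  obtain ⟨h1, h2⟩ := h
  unfold kG tS tz
  rw [← el_pmul n_le (good_kget i) good_czS, ← el_pmul n_le good_czS (good_kget i),
    ← el_pmul n_le (good_kget i) (good_kget i), Nat.eq_of_beq_eq_true h1, Nat.eq_of_beq_eq_true h2, el_pone n_le]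
  exact ⟨rfl, rfl⟩

/-- the subgroup of the centraliser -/
noncomputable def C0S : Subgroup ↥PS := Subgroup.closure (kG '' Set.Iio 5)

theorem kG_mem {i : ℕ} (hi : i < 5) : kG i ∈ C0S := Subgroup.subset_closure ⟨i, hi, rfl⟩

theorem hC0S : C0S ≤ Cz tS := by
  unfold C0S
  rw [Subgroup.closure_le]
  rintro _ ⟨i, hi, rfl⟩
  rw [SetLike.mem_coe, Cz, Subgroup.mem_centralizer_singleton_iff]
  exact (kG_props hi).1

theorem prod_kG (w : List ℕ) : el PS (wordG 1782 kcodesL w) = (w.map kG).prod :=
  (wordG_spec n_le good_kcodes w).2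

theorem kpar_lt : ∀ i, i < 5 → kpar i < 5 := by
  intro i hi
  interval_cases i <;> decide

theorem kpar_root : ∀ i, i < 5 → kpar^[5] i = 0 := by
  intro i hi
  interval_cases i <;> decide

theorem kG_link : ∀ i, i < 5 → (kG i * kG (kpar i)) ^ 3 = 1 := by
  intro i hi
  have h := List.all_eq_true.1 chk_klink i (List.mem_range.2 hi)
  have e := prod_kG [i, kpar i, i, kpar i, i, kpar i]
  rw [Nat.eq_of_beq_eq_true h, el_pone n_le] at e
  rw [e]
  simp only [List.map_cons, List.map_nil, List.prod_cons, List.prod_nil, mul_one, pow_succ, pow_zero, one_mul,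
    mul_assoc]

theorem kword_lt : ∀ x ∈ kword, x < 5 := by decide

theorem kword_prod : (kword.map kG).prod = 1 := by
  rw [← prod_kG, Nat.eq_of_beq_eq_true chk_kword, el_pone n_le]

/-- **the subgroup of the centraliser is perfect** -/
theorem perfect_C0S : commutator ↥C0S = ⊤ :=
  perfect_closure_invol kG 5 kpar (fun i hi => (kG_props hi).2) kpar_lt kG_link kpar_root kword kword_lt
    (by decide) kword_prod

/-- **the codes of the transversals belong to elements of the subgroup** -/
theorem trv_mem : ∀ c ∈ trvL, Good PS c ∧ el PS c ∈ C0S := by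
  have hgood : ∀ c ∈ ((List.range 5).reverse.map fun i => kcodesL.getD i (pone 1782)), Good PS c := by
    intro c hc
    rw [List.mem_map] at hc
    obtain ⟨i, -, rfl⟩ := hc
    exact good_kget i
  refine mem_of_run n_le (regs_el _ hgood) C0S ?_ trvProg trvIdx trvL chk_trv
  intro g hg
  rw [List.mem_map] at hg
  obtain ⟨c, hc, rfl⟩ := hg
  rw [List.mem_map] at hc
  obtain ⟨i, hi, rfl⟩ := hc
  rw [List.mem_reverse, List.mem_range] at hi
  exact kG_mem hi

/-! ### `PS` is perfect -/

theorem simple_PS : IsSimpleGroup ↥PS := by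
  have : IsSimpleGroup Suz := SuzSimple.main.1
  exact isoPS.symm.isSimpleGroup

theorem chk_k0 : Nat.beq (kcodesL.getD 0 (pone 1782)) (pone 1782) = false := by decide +kernel

theorem kG_zero_ne : kG 0 ≠ 1 := by
  intro h
  have h1 : enc 1782 (kG 0).1 = kcodesL.getD 0 (pone 1782) := enc_el (good_kget 0)
  rw [h] at h1
  have h2 : enc 1782 ((1 : ↥PS) : Equiv.Perm (Fin 1782)) = pone 1782 := by rw [pone_eq]; rfl
  rw [h2] at h1
  have := chk_k0
  rw [← h1, Nat.beq_refl] at this
  exact Bool.noConfusion this

/-- **`PS` is perfect** -/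
theorem perfect_PS : commutator ↥PS = ⊤ := by
  have hs := simple_PS
  rcases hs.eq_bot_or_eq_top_of_normal (commutator ↥PS) inferInstance with h | h
  · exfalso
    have h1 : ⁅C0S, C0S⁆ ≤ commutator ↥PS := by
      rw [commutator_def]
      exact Subgroup.commutator_mono le_top le_top
    rw [h, ← Subgroup.map_subtype_commutator, perfect_C0S, ← MonoidHom.range_eq_map,
      Subgroup.range_subtype] at h1
    exact kG_zero_ne (Subgroup.mem_bot.1 (h1 (kG_mem (by norm_num))))
  · exact h

end Cfsg.Agent.Lib.Helper5.SuzMult
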