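import Mathlib

/-! Data for the bound on the stem extensions of `Suz` (generated by a script): coincidences of the large certificate,
part 6. -/

set_option autoImplicit false

namespace Cfsg.Agent.Lib.Helper5.SuzMult

def rel5_6 : List ((List ℕ × ℕ × List ℕ × ℕ) × List ℕ) := [
  (([6, 2, 0, 3], 7, [6, 2, 4], 7), [62, 76, 91, 99]), (([7, 3, 0, 3], 3, [8, 3, 7], 7), [9, 68, 75, 92, 95]),
  (([8, 3, 0, 3], 3, [7, 3, 8], 8), [42, 85, 88, 94]), (([2, 5, 0, 3], 0, [4, 5, 0], 2), [59, 75, 96, 100]),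
  (([2, 6, 0, 3], 7, [3, 4, 6], 7), [53, 84, 93, 95, 99, 100]), (([2, 6, 0, 3], 8, [3, 4, 6], 8), [0, 83, 92, 98, 99]),
  (([6, 5, 1, 3], 4, [6, 4, 1], 5), [59, 75, 95, 100]), (([5, 0, 2, 3], 7, [5, 0, 4], 7), [57, 80, 92, 94, 100]),
  (([5, 0, 2, 3], 8, [5, 0, 4], 8), [30, 60, 84, 92, 100]), (([5, 1, 2, 3], 7, [5, 3, 1], 7), []),
  (([2, 6, 2, 3], 7, [6, 3, 1], 7), [63, 85, 92, 98, 99]), (([5, 7, 2, 3], 4, [5, 7, 5], 4), [58, 85, 93, 94, 99, 100]),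
  (([5, 2, 4, 3], 7, [5, 2, 4], 7), [53, 76, 87, 98, 99]), (([2, 6, 4, 3], 8, [2, 6, 4], 8), [19, 66, 88, 95, 99]),
  (([6, 0, 5, 3], 3, [6, 1, 4], 5), [55, 85, 91]), (([2, 3, 5, 3], 7, [5, 4, 2], 7), [53, 76, 87, 98, 99]),
  (([2, 3, 5, 3], 8, [5, 4, 2], 8), [19, 66, 88, 95, 99]), (([2, 4, 5, 3], 8, [5, 1, 4], 8), [8, 86, 91, 95, 100]),
  (([3, 4, 5, 3], 7, [5, 2, 0], 7), [57, 73, 93, 96]), (([6, 7, 5, 3], 1, [6, 7, 2], 4), [59, 83, 88, 96, 99, 100]),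
  (([6, 7, 5, 3], 2, [1, 7, 2], 3), [58, 79, 90, 96]), (([6, 8, 5, 3], 1, [6, 8, 2], 4), [36, 63, 82, 93, 99]),
  (([6, 8, 5, 3], 2, [1, 8, 2], 3), [13, 68, 81, 93, 94]), (([5, 2, 6, 3], 1, [6, 3, 5], 1), [66, 77, 94, 100]),
  (([5, 3, 6, 3], 0, [6, 0, 5], 2), [66, 82, 90, 97, 99]), (([2, 4, 6, 3], 7, [6, 3, 4], 7), [53, 76, 87, 98, 99]),
  (([2, 4, 6, 3], 8, [6, 3, 4], 8), [19, 66, 88, 95, 99]), (([5, 4, 6, 3], 8, [5, 6, 2], 8), [19, 66, 88, 95, 99]),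
  (([5, 7, 6, 3], 2, [7, 3, 7], 5), [73, 88, 98, 99, 100]), (([5, 8, 6, 3], 2, [8, 3, 8], 5), [3, 84, 89, 100]),
  (([6, 0, 7, 3], 1, [7, 5, 4], 6), [54, 74, 92, 97, 99]), (([7, 3, 7, 3], 2, [8, 2, 4], 7), [9, 53, 79, 93, 96, 100]),
  (([7, 5, 7, 3], 3, [7, 5, 7], 3), [67, 80, 91, 96, 100]), (([6, 0, 8, 3], 1, [8, 5, 4], 6), [45, 69, 72, 90, 94, 99, 100]),
  (([8, 3, 8, 3], 2, [7, 2, 4], 8), [38, 60, 76, 88, 98, 99]), (([8, 5, 8, 3], 3, [8, 5, 8], 3), [45, 76, 90, 95, 100]),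
  (([2, 5, 0, 4], 0, [3, 5, 3], 1), [62, 77, 89, 97, 99]), (([2, 6, 0, 4], 7, [6, 4, 1], 7), [63, 85, 92, 98, 99]),
  (([3, 5, 2, 4], 7, [5, 1, 3], 7), [53, 72, 88, 97]), (([3, 5, 2, 4], 8, [5, 1, 3], 8), [8, 86, 91, 95, 100]),
  (([2, 6, 2, 4], 7, [3, 6, 3], 7), [53, 76, 87, 98, 99]), (([2, 6, 2, 4], 8, [3, 6, 3], 8), [19, 66, 88, 95, 99]),
  (([3, 6, 2, 4], 7, [3, 6, 2], 7), [53, 76, 87, 98, 99]), (([3, 6, 2, 4], 8, [3, 6, 2], 8), [19, 66, 88, 95, 99]),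
  (([4, 7, 2, 4], 2, [4, 7, 2], 2), [53, 86, 91, 100]), (([5, 2, 3, 4], 7, [5, 2, 3], 7), [53, 76, 87, 98, 99]),
  (([5, 2, 3, 4], 8, [5, 2, 3], 8), [19, 66, 88, 95, 99]), (([2, 5, 3, 4], 7, [5, 1, 2], 7), [53, 72, 88, 97]),
  (([2, 5, 3, 4], 8, [5, 1, 2], 8), [8, 86, 91, 95, 100]), (([2, 6, 3, 4], 0, [2, 6, 3], 0), [66, 86, 92, 98]),
  (([2, 6, 3, 4], 8, [2, 6, 3], 8), [19, 66, 88, 95, 99]), (([5, 6, 3, 4], 0, [7, 3, 7], 6), [71, 75]),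
  (([5, 7, 3, 4], 2, [7, 5, 2], 2), [60, 83, 87, 98, 99]), (([5, 8, 3, 4], 2, [8, 5, 2], 2), [30, 58, 73, 87, 98, 99, 100]),
  (([2, 3, 5, 4], 7, [2, 3, 5], 7), [53, 76, 87, 98, 99]), (([2, 3, 5, 4], 8, [2, 3, 5], 8), [19, 66, 88, 95, 99]),
  (([2, 4, 5, 4], 8, [5, 4, 1], 8), [50, 56, 79, 87, 94, 100]), (([3, 6, 5, 4], 0, [5, 0, 6], 2), [70, 77, 91, 94, 99, 100]),
  (([3, 0, 6, 4], 7, [6, 0, 2], 7), [62, 74, 89, 97, 99]), (([3, 0, 6, 4], 8, [6, 0, 2], 8), [12, 65, 74, 89, 98, 99, 100]),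
  (([2, 4, 6, 4], 8, [6, 4, 3], 8), [19, 66, 88, 95, 99]), (([3, 4, 6, 4], 1, [5, 6, 1], 4), [62, 82, 87, 97, 99]),
  (([2, 5, 6, 4], 7, [6, 5, 2], 7), [53, 76, 87, 98, 99]), (([2, 5, 6, 4], 8, [6, 5, 2], 8), [19, 66, 88, 95, 99]),
  (([3, 5, 6, 4], 7, [6, 5, 3], 7), [53, 76, 87, 98, 99]), (([3, 5, 6, 4], 8, [6, 5, 3], 8), [19, 66, 88, 95, 99]),
  (([7, 5, 6, 4], 2, [7, 6, 1], 6), [67, 85, 88, 97]), (([8, 5, 6, 4], 2, [8, 6, 1], 6), [45, 85, 92, 96, 100]),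
  (([3, 7, 6, 4], 0, [5, 2, 7], 1), [53, 82, 93, 94, 99, 100]), (([4, 7, 6, 4], 3, [7, 6, 1], 5), [68, 79, 92, 97, 99]),
  (([3, 8, 6, 4], 0, [5, 2, 8], 1), [8, 76, 93, 98, 100]), (([6, 0, 7, 4], 2, [6, 0, 7], 3), [70, 85, 88, 99]),
  (([7, 2, 7, 4], 3, [5, 7, 2], 4), [62, 81, 89, 98, 100]), (([6, 5, 7, 4], 4, [4, 6, 7], 5), [62, 72, 89, 96, 99, 100]),
  (([1, 6, 7, 4], 4, [7, 5, 2], 6), [56, 82, 87, 95, 100]), (([6, 2, 8, 4], 0, [6, 1, 8], 3), [59, 74, 93, 98]),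
  (([8, 2, 8, 4], 3, [5, 8, 2], 4), [62, 81, 89, 98, 100]), (([1, 6, 8, 4], 4, [8, 5, 2], 6), [39, 67, 74, 91, 95, 99, 100]),
  (([5, 2, 0, 5], 7, [5, 2, 0], 7), [53, 74]), (([2, 3, 0, 5], 7, [3, 4, 1], 7), [57, 79, 93, 97, 99]),
  (([2, 3, 0, 5], 8, [3, 4, 1], 8), [43, 65, 83, 91, 96, 100]), (([7, 5, 0, 5], 5, [8, 5, 7], 7), [9, 71, 85, 88, 96, 99, 100]),
  (([8, 5, 0, 5], 5, [7, 5, 8], 8), [19, 70, 72, 91, 98, 99]), (([7, 5, 1, 5], 2, [7, 5, 1], 2), [66, 78, 90, 97, 99]),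
  (([5, 1, 2, 5], 7, [5, 3, 4], 7), [53, 81, 89, 96, 99, 100]), (([5, 1, 2, 5], 8, [5, 3, 4], 8), [22, 82, 88, 97, 99, 100]),
  (([5, 7, 2, 5], 2, [5, 7, 2], 2), [85, 88, 100]), (([5, 8, 2, 5], 2, [5, 8, 2], 2), [48, 59, 84, 88, 99]),
  (([5, 1, 3, 5], 8, [5, 2, 4], 8), [22, 82, 88, 97, 99, 100]), (([6, 8, 3, 5], 5, [2, 5, 6], 8), [2, 64, 79, 93, 95]),
  (([5, 0, 4, 5], 7, [5, 0, 4], 7), [53, 81, 89, 98, 99]), (([2, 3, 4, 5], 7, [5, 2, 3], 7), [53, 76, 87, 98, 99]),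
  (([2, 3, 4, 5], 8, [5, 2, 3], 8), [19, 66, 88, 95, 99]), (([2, 5, 4, 5], 8, [3, 4, 2], 8), [19, 66, 88, 95, 99]),
  (([6, 4, 7, 5], 1, [7, 2, 3], 6), [62, 77, 92, 98, 99]), (([7, 6, 7, 5], 3, [6, 1, 7], 4), [59, 75, 90, 99])]

end Cfsg.Agent.Lib.Helper5.SuzMult
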